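import Cfsg.Agent.OddChar.TypeP.Defs
import Cfsg.Agent.OddLocal.Basics
import Cfsg.Agent.OddLocal.NonNilpotent
import Cfsg.Agent.OddLocal.FittingStructure
import Cfsg.Agent.OddLocal.FrobeniusFormula

/-!
# Elementary facts about type P data used in Peterfalvi section 9
-/

set_option autoImplicit false

namespace Cfsg.Agent.OddChar.TypeP

open Cfsg Subgroup
open Cfsg.Agent.OddLocal

variable {G : Type*} [Group G] [Finite G] {M W₁ U W₂ : Subgroup G}

theorem commutator_le_M (M : Subgroup G) : ⁅M, M⁆ ≤ M := M.commutator_le_self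

theorem H_le_derived (hP : IsTypePWith M W₁ U W₂) : fittingHallOf M ≤ ⁅M, M⁆ := hP.U_compl.1

theorem H_le_M (M : Subgroup G) : fittingHallOf M ≤ M := Basics.fittingHallOf_le M

theorem U_le_M (hP : IsTypePWith M W₁ U W₂) : U ≤ M := hP.U_compl.2.1.trans (commutator_le_M M)

theorem W₁_le_M (hP : IsTypePWith M W₁ U W₂) : W₁ ≤ M := hP.W₁_compl.2.1

theorem W₂_le_H (hP : IsTypePWith M W₁ U W₂) : W₂ ≤ fittingHallOf M := hP.W₂_le.trans inf_le_left

theorem M_le_normalizer_H (M : Subgroup G) : M ≤ normalizer (fittingHallOf M : Set G) :=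
  FittingStructure.le_normalizer_fittingHallOf M

theorem M_le_of_parts (hP : IsTypePWith M W₁ U W₂) {K : Subgroup G} (h1 : fittingHallOf M ≤ K)
    (h2 : U ≤ K) (h3 : W₁ ≤ K) : M ≤ K := by
  intro m hm
  obtain ⟨d, hd, w, hw, rfl⟩ := hP.W₁_compl.2.2.2 m hm
  obtain ⟨h, hh, u, hu, rfl⟩ := hP.U_compl.2.2.2 d hd
  exact mul_mem (mul_mem (h1 hh) (h2 hu)) (h3 hw)

theorem card_derived (hP : IsTypePWith M W₁ U W₂) :
    Nat.card ↥⁅M, M⁆ = Nat.card (fittingHallOf M) * Nat.card U := by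
  obtain ⟨a, b, c, d⟩ := hP.U_compl
  exact Basics.card_eq_of_isCompl' a b c d

theorem card_M (hP : IsTypePWith M W₁ U W₂) :
    Nat.card M = Nat.card ↥⁅M, M⁆ * Nat.card W₁ := by
  obtain ⟨a, b, c, d⟩ := hP.W₁_compl
  exact Basics.card_eq_of_isCompl' a b c d

theorem card_mul_relIndex {A B : Subgroup G} (h : A ≤ B) :
    Nat.card A * A.relIndex B = Nat.card B := by
  rw [← relIndex_bot_left, ← relIndex_bot_left]
  exact relIndex_mul_relIndex ⊥ A B bot_le h

theorem coprime_derived_W₁ (hP : IsTypePWith M W₁ U W₂) :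
    (Nat.card ↥⁅M, M⁆).Coprime (Nat.card W₁) := by
  have e : W₁.relIndex M = Nat.card ↥⁅M, M⁆ :=
    Nat.eq_of_mul_eq_mul_left Nat.card_pos
      ((card_mul_relIndex (W₁_le_M hP)).trans ((card_M hP).trans (mul_comm _ _)))
  exact (e ▸ hP.W₁_hall).symm

theorem coprime_U_W₁ (hP : IsTypePWith M W₁ U W₂) : (Nat.card U).Coprime (Nat.card W₁) :=
  (coprime_derived_W₁ hP).coprime_dvd_left (card_dvd_of_le hP.U_compl.2.1)

theorem coprime_H (hP : IsTypePWith M W₁ U W₂) :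
    (Nat.card (fittingHallOf M)).Coprime (Nat.card U * Nat.card W₁) := by
  refine (Basics.fittingHallOf_coprime M).coprime_dvd_right (dvd_of_eq ?_)
  apply Nat.eq_of_mul_eq_mul_left (n := Nat.card (fittingHallOf M)) Nat.card_pos
  rw [card_mul_relIndex (H_le_M M), card_M hP, card_derived hP, mul_assoc]

theorem coprime_H_U (hP : IsTypePWith M W₁ U W₂) :
    (Nat.card (fittingHallOf M)).Coprime (Nat.card U) :=
  (coprime_H hP).coprime_dvd_right (dvd_mul_right _ _)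

theorem W₁_fpf (hP : IsTypePWith M W₁ U W₂) :
    ∀ a ∈ W₁, a ≠ 1 → ∀ u ∈ U, a * u = u * a → u = 1 := by
  intro a ha ha1 u hu e
  have h1 : u ∈ ⁅M, M⁆ ⊓ centralizer ({a} : Set G) :=
    mem_inf.mpr ⟨hP.U_compl.2.1 hu, mem_centralizer_singleton_iff.mpr e.symm⟩
  rw [hP.W₂_centralizer a ha ha1] at h1
  exact mem_bot.mp (hP.U_compl.2.2.1.le (mem_inf.mpr ⟨W₂_le_H hP h1, hu⟩))

theorem H_inf_centralizer_W₁ (hP : IsTypePWith M W₁ U W₂) :
    fittingHallOf M ⊓ centralizer (W₁ : Set G) = W₂ := by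
  refine le_antisymm ?_ ?_
  · obtain ⟨a, ha, ha1⟩ := W₁.ne_bot_iff_exists_ne_one.mp hP.W₁_ne |>
      fun ⟨x, hx⟩ => (⟨(x : G), x.2, fun e => hx (Subtype.ext e)⟩ : ∃ a ∈ W₁, a ≠ (1 : G))
    rw [← hP.W₂_centralizer a ha ha1]
    exact inf_le_inf (H_le_derived hP) (centralizer_le (Set.singleton_subset_iff.mpr ha))
  · refine le_inf (W₂_le_H hP) fun b hb => mem_centralizer_iff.mpr fun a ha => ?_
    exact hP.selfNormalizing.2.2.2.1 a ha b hb

theorem W₂_cyclic (hP : IsTypePWith M W₁ U W₂) : IsCyclic W₂ := by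
  have := hP.selfNormalizing.2.2.2.2.1
  exact isCyclic_of_injective (Subgroup.inclusion (le_sup_right : W₂ ≤ W₁ ⊔ W₂))
    (Subgroup.inclusion_injective _)

/-- `U W₁` acts on `H` as a Frobenius group of coprime order. -/
theorem frobHyp (hP : IsTypePWith M W₁ U W₂) :
    FrobeniusFormula.Hyp (fittingHallOf M) U W₁ where
  hEU := hP.U_normal
  fpf := W₁_fpf hP
  hUH := (U_le_M hP).trans (M_le_normalizer_H M)
  hEH := (W₁_le_M hP).trans (M_le_normalizer_H M)
  solv := by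
    have := NonNilpotent.isNilpotent_fittingHallOf M
    infer_instance
  cop := coprime_H hP

/-- In a group normalised by `W₁` on which it acts freely, every element is a commutator with a
given non-identity element of `W₁`. -/
theorem exists_eq_commutator (hP : IsTypePWith M W₁ U W₂) {a : G} (ha : a ∈ W₁) (ha1 : a ≠ 1) :
    ∀ u ∈ U, ∃ x ∈ U, u = x⁻¹ * (a * x * a⁻¹) := by
  intro u hu
  have haN := mem_normalizer_iff.mp (hP.U_normal ha)
  let φ : U → U := fun x => x⁻¹ * ⟨a * x * a⁻¹, (haN x).mp x.2⟩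
  have hφ : Function.Surjective φ := by
    refine Finite.surjective_of_injective fun x y h => ?_
    have h1 : (x : G)⁻¹ * (a * x * a⁻¹) = (y : G)⁻¹ * (a * y * a⁻¹) := congrArg Subtype.val h
    have hc : a * ((y : G) * (x : G)⁻¹)⁻¹ = ((y : G) * (x : G)⁻¹)⁻¹ * a := by
      have h2 : a * (x : G) * a⁻¹ = (x : G) * ((y : G)⁻¹ * (a * y * a⁻¹)) := by
        rw [← h1]; group
      calc a * ((y : G) * (x : G)⁻¹)⁻¹
          = (a * (x : G) * a⁻¹) * (a * (y : G)⁻¹) := by group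
        _ = (x : G) * ((y : G)⁻¹ * (a * y * a⁻¹)) * (a * (y : G)⁻¹) := by rw [h2]
        _ = ((y : G) * (x : G)⁻¹)⁻¹ * a := by group
    have h3 := W₁_fpf hP a ha ha1 _ (inv_mem (mul_mem y.2 (inv_mem x.2))) hc
    rw [inv_eq_one, mul_inv_eq_one] at h3
    exact (Subtype.ext h3).symm
  obtain ⟨x, hx⟩ := hφ ⟨u, hu⟩
  exact ⟨x, x.2, (congrArg Subtype.val hx).symm⟩

end Cfsg.Agent.OddChar.TypeP
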