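import Mathlib

/-!
# An abelian group of operators acting irreducibly gives a finite field
-/

set_option autoImplicit false

namespace Cfsg.Agent.OddChar.TypeP

universe u v

/-- A group of commuting automorphisms acting irreducibly on a finite abelian group makes it the
additive group of a finite field in which the operators act by multiplications. -/
theorem exists_field {V : Type u} [Group V] [Finite V] (hV : ∀ x y : V, x * y = y * x)
    {Γ : Type v} [Group Γ] (ρ : Γ → V →* V) (hmul : ∀ g h x, ρ (g * h) x = ρ g (ρ h x))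
    (hone : ∀ x, ρ 1 x = x) (hc : ∀ g h x, ρ g (ρ h x) = ρ h (ρ g x))
    (hirr : ∀ N : Subgroup V, (∀ g, ∀ x ∈ N, ρ g x ∈ N) → N = ⊥ ∨ N = ⊤) {v₀ : V} (hv₀ : v₀ ≠ 1) :
    ∃ (F : Type) (_ : Field F) (_ : Fintype F) (e : V → F) (ψ : Γ → F),
      Fintype.card F = Nat.card V ∧ Function.Bijective e ∧ (∀ x y, e (x * y) = e x + e y) ∧
      e v₀ = 1 ∧ (∀ g x, e (ρ g x) = ψ g * e x) ∧ (∀ g, ψ g ≠ 0) ∧
      (∀ g h, ψ (g * h) = ψ g * ψ h) ∧ (∀ g, ψ g = 1 ↔ ∀ x, ρ g x = x) := by
  classical
  let _ : CommGroup V := { ‹Group V› with mul_comm := hV }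
  let R : Γ → AddMonoid.End (Additive V) := fun g => MonoidHom.toAdditive (ρ g)
  let A : Subring (AddMonoid.End (Additive V)) := Subring.centralizer (Set.range R)
  have hRA : ∀ g, R g ∈ A := by
    intro g
    refine Subring.mem_centralizer_iff.mpr ?_
    rintro _ ⟨h, rfl⟩
    refine AddMonoidHom.ext fun x => ?_
    exact congrArg Additive.ofMul (hc h g (Additive.toMul x))
  have hcomm : ∀ a : A, ∀ g x, (a : AddMonoid.End (Additive V)) (R g x) =
      R g ((a : AddMonoid.End (Additive V)) x) := fun a g x =>
    (DFunLike.congr_fun (Subring.mem_centralizer_iff.mp a.2 (R g) ⟨g, rfl⟩) x).symm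
  -- non-zero members are injective
  have hinj : ∀ a : A, a ≠ 0 → ∀ x, (a : AddMonoid.End (Additive V)) x = 0 → x = 0 := by
    intro a ha x hx
    let N : Subgroup V :=
      { carrier := {v | (a : AddMonoid.End (Additive V)) (Additive.ofMul v) = 0}
        one_mem' := map_zero _
        mul_mem' := fun {p q} hp hq => by
          simp only [Set.mem_ofPred_eq, ofMul_mul, map_add] at hp hq ⊢
          rw [hp, hq, add_zero]
        inv_mem' := fun {p} hp => by
          simp only [Set.mem_ofPred_eq, ofMul_inv, map_neg] at hp ⊢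
          rw [hp, neg_zero] }
    rcases hirr N (fun g v hv => by
        have h : (a : AddMonoid.End (Additive V)) (R g (Additive.ofMul v)) = 0 := by
          rw [hcomm, show (a : AddMonoid.End (Additive V)) (Additive.ofMul v) = 0 from hv, map_zero]
        exact h) with hN | hN
    · have h1 : Additive.toMul x ∈ N := hx
      rw [hN, Subgroup.mem_bot] at h1
      exact h1
    · refine absurd (Subtype.ext (AddMonoidHom.ext fun y => ?_)) ha
      have h1 : Additive.toMul y ∈ N := hN ▸ Subgroup.mem_top _
      exact h1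
  set w : Additive V := Additive.ofMul v₀
  have hw : w ≠ 0 := hv₀
  have : Nontrivial A := ⟨⟨1, 0, fun e => hw (congrArg (fun a : A => (a : AddMonoid.End (Additive V)) w) e)⟩⟩
  have : NoZeroDivisors A := ⟨fun {a b} hab => or_iff_not_imp_left.mpr fun ha => by
    refine Subtype.ext (AddMonoidHom.ext fun y => hinj a ha _ ?_)
    exact congrArg (fun c : A => (c : AddMonoid.End (Additive V)) y) hab⟩
  have : IsDomain A := NoZeroDivisors.to_isDomain _
  let e₁ : A → Additive V := fun a => (a : AddMonoid.End (Additive V)) w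
  have he₁ : Function.Injective e₁ := fun a b hab => by
    by_contra hne
    refine hw (hinj (a - b) (sub_ne_zero.mpr hne) w ?_)
    exact sub_eq_zero.mpr hab
  have he₁s : Function.Surjective e₁ := by
    let N : Subgroup V :=
      { carrier := {v | ∃ a : A, e₁ a = Additive.ofMul v}
        one_mem' := ⟨0, rfl⟩
        mul_mem' := by
          rintro p q ⟨a, ha⟩ ⟨b, hb⟩
          exact ⟨a + b, show e₁ a + e₁ b = _ by rw [ha, hb, ofMul_mul]⟩
        inv_mem' := by
          rintro p ⟨a, ha⟩
          exact ⟨-a, show -(e₁ a) = _ by rw [ha, ofMul_inv]⟩ }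
    rcases hirr N (by
        rintro g v ⟨a, ha⟩
        exact ⟨⟨R g, hRA g⟩ * a, show R g (e₁ a) = _ by rw [ha]; rfl⟩) with hN | hN
    · have h1 : v₀ ∈ N := ⟨1, rfl⟩
      rw [hN, Subgroup.mem_bot] at h1
      exact absurd h1 hv₀
    · intro x
      exact (hN ▸ Subgroup.mem_top (Additive.toMul x) : Additive.toMul x ∈ N)
  have : Finite A := Finite.of_injective e₁ he₁
  let _ : Field A := (Finite.isDomain_to_isField A).toField
  let _ : Fintype A := Fintype.ofFinite A
  obtain ⟨p, -, n, hp, hcard⟩ := FiniteField.card' A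
  have := Fact.mk hp
  let _ : Fintype (GaloisField p n) := Fintype.ofFinite _
  have hcF : Fintype.card A = Fintype.card (GaloisField p n) := by
    rw [hcard, ← Nat.card_eq_fintype_card, GaloisField.card p n n.pos.ne']
  let σ : A ≃+* GaloisField p n := FiniteField.ringEquivOfCardEq hcF
  let E : A ≃ Additive V := Equiv.ofBijective e₁ ⟨he₁, he₁s⟩
  have hE : ∀ a b, E.symm (a + b) = E.symm a + E.symm b := fun a b => by
    refine E.injective ?_
    rw [Equiv.apply_symm_apply]
    exact (congrArg₂ (· + ·) (E.apply_symm_apply a) (E.apply_symm_apply b)).symm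
  have hE1 : E.symm w = 1 := E.injective (by rw [Equiv.apply_symm_apply]; rfl)
  refine ⟨GaloisField p n, inferInstance, inferInstance,
    fun x => σ (E.symm (Additive.ofMul x)), fun g => σ ⟨R g, hRA g⟩, ?_, ?_, ?_, ?_, ?_, ?_, ?_, ?_⟩
  · rw [← hcF, ← Nat.card_eq_fintype_card]
    exact (Nat.card_congr E).trans (Nat.card_congr Additive.toMul)
  · exact σ.bijective.comp (E.symm.bijective.comp Additive.ofMul.bijective)
  · intro x y
    simp only [ofMul_mul, hE, map_add]
  · exact (congrArg σ hE1).trans σ.map_one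
  · intro g x
    rw [← map_mul]
    refine congrArg σ (E.injective ?_)
    rw [Equiv.apply_symm_apply]
    exact (congrArg (R g) (E.apply_symm_apply (Additive.ofMul x))).symm
  · intro g hg
    have h0 : (⟨R g, hRA g⟩ : A) = 0 := σ.injective (by rw [map_zero]; exact hg)
    have h1 : ρ g (ρ g⁻¹ v₀) = 1 :=
      congrArg (fun a : A => Additive.toMul ((a : AddMonoid.End (Additive V))
        (Additive.ofMul (ρ g⁻¹ v₀)))) h0
    rw [← hmul, mul_inv_cancel, hone] at h1
    exact hv₀ h1
  · intro g h
    rw [← map_mul]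
    refine congrArg σ (Subtype.ext (AddMonoidHom.ext fun x => ?_))
    exact congrArg Additive.ofMul (hmul g h (Additive.toMul x))
  · intro g
    constructor
    · intro hg x
      have h0 : (⟨R g, hRA g⟩ : A) = 1 := σ.injective (by rw [map_one]; exact hg)
      exact congrArg (fun a : A => Additive.toMul ((a : AddMonoid.End (Additive V))
        (Additive.ofMul x))) h0
    · intro hg
      have h1 : (⟨R g, hRA g⟩ : A) = 1 :=
        Subtype.ext (AddMonoidHom.ext fun x => congrArg Additive.ofMul (hg (Additive.toMul x)))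
      exact (congrArg σ h1).trans σ.map_one

/-- Elements fixed by the Frobenius map are integers. -/
theorem exists_natCast_of_pow_eq {F : Type*} [Field F] {r : ℕ} [Fact r.Prime] [CharP F r] {x : F}
    (hx : x ^ r = x) : ∃ k : ℕ, x = k := by
  have h := (Subfield.mem_bot_iff_pow_eq_self F r).mpr hx
  rw [← ZMod.fieldRange_castHom_eq_bot r] at h
  obtain ⟨z, rfl⟩ := h
  exact ⟨z.val, by rw [ZMod.castHom_apply, ZMod.natCast_val]⟩

end Cfsg.Agent.OddChar.TypeP
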