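import Cfsg.Agent.OddChar.TypeP.Section
import Cfsg.Agent.OddChar.TypeP.SectionField

/-!
# Field structure on an irreducible abelian section
-/

set_option autoImplicit false

namespace Cfsg.Agent.OddChar.TypeP

open Cfsg Subgroup
open scoped commutatorElement

variable {G : Type*} [Group G] [Finite G]

/-- Conjugation by a normalising element, as an endomorphism. -/
def conjEnd (K : Subgroup G) (x : G) (hx : x ∈ normalizer (K : Set G)) : K →* K where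
  toFun h := ⟨x * h * x⁻¹, (mem_normalizer_iff.mp hx h).mp h.2⟩
  map_one' := Subtype.ext (by simp)
  map_mul' a b := Subtype.ext (by simp [mul_assoc])

/-- Conjugation of `U` by elements of a subgroup normalising it. -/
abbrev conjU {U W : Subgroup G} (hW : W ≤ normalizer (U : Set G)) (w : W) : U →* U :=
  conjEnd U w (hW w.2)

/-- If `U = [U, a]`, the product over `W ∋ a` of the conjugates of a linear map on `U` is trivial. -/
theorem prod_conj_eq_one {U W : Subgroup G} [Fintype W] (hW : W ≤ normalizer (U : Set G)) {a : G}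
    (ha : a ∈ W) (hsurj : ∀ u ∈ U, ∃ x ∈ U, u = x⁻¹ * (a * x * a⁻¹)) {Z : Type*} [CommGroup Z]
    (χ : U →* Z) (u : U) : ∏ w : W, χ (conjU hW w u) = 1 := by
  obtain ⟨x, hx, e⟩ := hsurj u u.2
  let π : U → Z := fun v => ∏ w : W, χ (conjU hW w v)
  have hπm : ∀ v v', π (v * v') = π v * π v' := fun v v' => by
    simp only [π, map_mul, Finset.prod_mul_distrib]
  have e2 : u = (⟨x, hx⟩ : U)⁻¹ * conjU hW ⟨a, ha⟩ ⟨x, hx⟩ := Subtype.ext e
  have hinv : π (conjU hW ⟨a, ha⟩ ⟨x, hx⟩) = π ⟨x, hx⟩ := by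
    refine Fintype.prod_equiv (Equiv.mulRight (⟨a, ha⟩ : W)) _ _ fun w => congrArg χ (Subtype.ext ?_)
    change (w : G) * (a * x * a⁻¹) * (w : G)⁻¹ = ((w : G) * a) * x * ((w : G) * a)⁻¹
    group
  have h1 : π 1 = 1 := by simp [π]
  change π u = 1
  rw [e2, hπm, hinv, ← hπm, inv_mul_cancel, h1]

/-- An irreducible section with commuting operators is a one-dimensional space over a field. -/
theorem exists_section_field {K K₀ U : Subgroup G} (hle : K₀ ≤ K)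
    (hab : ∀ a ∈ K, ∀ b ∈ K, a * b * a⁻¹ * b⁻¹ ∈ K₀)
    (hUK : U ≤ normalizer (K : Set G)) (hU0 : U ≤ normalizer (K₀ : Set G))
    (hder : ∀ u ∈ U, ∀ v ∈ U, ∀ h ∈ K, ⁅u, v⁆ * h * ⁅u, v⁆⁻¹ * h⁻¹ ∈ K₀)
    (hirr : ∀ N : Subgroup G, U ≤ normalizer (N : Set G) → K₀ ≤ N → N ≤ K → N = K₀ ∨ N = K)
    {w₀ : G} (hw : w₀ ∈ K) (hw0 : w₀ ∉ K₀) :
    ∃ (F : Type) (_ : Field F) (_ : Fintype F) (f : G → F) (χ : U →* Fˣ),
      Fintype.card F = K₀.relIndex K ∧ (∀ y : F, ∃ h ∈ K, f h = y) ∧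
      (∀ h ∈ K, f h = 0 ↔ h ∈ K₀) ∧ (∀ a ∈ K, ∀ b ∈ K, f (a * b) = f a + f b) ∧ f w₀ = 1 ∧
      (∀ u : U, ∀ h ∈ K, f ((u : G) * h * (u : G)⁻¹) = (χ u : F) * f h) ∧
      (∀ u : U, χ u = 1 ↔ ∀ h ∈ K, (u : G) * h * (u : G)⁻¹ * h⁻¹ ∈ K₀) := by
  classical
  have hKn : K ≤ normalizer (K₀ : Set G) := le_normalizer_between hab le_rfl hle
  have : (K₀.subgroupOf K).Normal := normal_subgroupOf_of_le_normalizer hKn
  set N₀ := K₀.subgroupOf K with hN₀
  let π := QuotientGroup.mk' N₀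
  have hπ : ∀ a b : K, π a = π b ↔ (a : G) * (b : G)⁻¹ ∈ K₀ := fun a b => by
    rw [← mul_inv_eq_one, ← map_inv, ← map_mul, QuotientGroup.mk'_apply, QuotientGroup.eq_one_iff]
    rfl
  have hπ1 : ∀ a : K, π a = 1 ↔ (a : G) ∈ K₀ := fun a => by
    rw [QuotientGroup.mk'_apply, QuotientGroup.eq_one_iff]; rfl
  have hcl : ∀ u : U, N₀ ≤ N₀.comap (conjEnd K u (hUK u.2)) := fun u h hh =>
    (mem_normalizer_iff.mp (hU0 u.2) _).mp hh
  let ρ : U → (K ⧸ N₀) →* (K ⧸ N₀) := fun u =>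
    QuotientGroup.map N₀ N₀ (conjEnd K u (hUK u.2)) (hcl u)
  have hρ : ∀ (u : U) (a : K), ρ u (π a) = π (conjEnd K u (hUK u.2) a) := fun u a => rfl
  have hρv : ∀ (u : U) (a : K), ((conjEnd K u (hUK u.2) a : K) : G) = (u : G) * a * (u : G)⁻¹ :=
    fun u a => rfl
  have hV : ∀ x y : K ⧸ N₀, x * y = y * x := by
    intro x y
    obtain ⟨a, rfl⟩ := QuotientGroup.mk'_surjective _ x
    obtain ⟨b, rfl⟩ := QuotientGroup.mk'_surjective _ y
    rw [← map_mul, ← map_mul]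
    refine (hπ _ _).mpr ?_
    simpa [mul_assoc] using hab a a.2 b b.2
  have hmul : ∀ (u v : U) x, ρ (u * v) x = ρ u (ρ v x) := by
    intro u v x
    obtain ⟨a, rfl⟩ := QuotientGroup.mk'_surjective _ x
    refine congrArg π (Subtype.ext ?_)
    change ((u : G) * v) * a * ((u : G) * v)⁻¹ = (u : G) * ((v : G) * a * (v : G)⁻¹) * (u : G)⁻¹
    group
  have hone : ∀ x, ρ 1 x = x := by
    intro x
    obtain ⟨a, rfl⟩ := QuotientGroup.mk'_surjective _ x
    exact congrArg π (Subtype.ext (by simp [conjEnd]))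
  have hc : ∀ (u v : U) x, ρ u (ρ v x) = ρ v (ρ u x) := by
    intro u v x
    rw [← hmul, ← hmul]
    obtain ⟨a, rfl⟩ := QuotientGroup.mk'_surjective _ x
    refine (hπ _ _).mpr ?_
    have hk : (v : G) * u * a * ((v : G) * u)⁻¹ ∈ K :=
      (mem_normalizer_iff.mp (hUK (mul_mem v.2 u.2)) a).mp a.2
    have h := hder u u.2 v v.2 _ hk
    rw [commutatorElement_def] at h
    change ((u : G) * v) * a * ((u : G) * v)⁻¹ * (((v : G) * u) * a * ((v : G) * u)⁻¹)⁻¹ ∈ K₀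
    convert h using 1
    group
  have hirr' : ∀ N : Subgroup (K ⧸ N₀), (∀ u, ∀ x ∈ N, ρ u x ∈ N) → N = ⊥ ∨ N = ⊤ := by
    intro N hN
    set N' := (N.comap π).map K.subtype with hN'
    have hmem : ∀ a : K, (a : G) ∈ N' ↔ π a ∈ N := fun a => by
      rw [hN', mem_map]
      exact ⟨fun ⟨b, hb, e⟩ => by rw [← Subtype.ext e]; exact hb, fun h => ⟨a, h, rfl⟩⟩
    have h1 : K₀ ≤ N' := fun a ha =>
      (hmem ⟨a, hle ha⟩).mpr (by rw [(hπ1 _).mpr ha]; exact one_mem _)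
    have h2 : U ≤ normalizer (N' : Set G) := by
      intro u hu
      refine mem_normalizer_fintype fun a ha => ?_
      obtain ⟨b, hb, rfl⟩ := (ha : a ∈ N')
      exact (hmem (conjEnd K u (hUK hu) b)).mpr (hN ⟨u, hu⟩ _ hb)
    rcases hirr N' h2 h1 (map_subtype_le _) with e | e
    · left
      refine (eq_bot_iff_forall _).mpr fun x hx => ?_
      obtain ⟨a, rfl⟩ := QuotientGroup.mk'_surjective _ x
      exact (hπ1 a).mpr (e.le ((hmem a).mpr hx))
    · right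
      refine eq_top_iff.mpr fun x _ => ?_
      obtain ⟨a, rfl⟩ := QuotientGroup.mk'_surjective _ x
      exact (hmem a).mp (e.ge a.2)
  obtain ⟨F, _, _, e, ψ, hcard, hbij, hadd, he1, hact, hne, hψmul, hψ1⟩ :=
    exists_field hV ρ hmul hone hc hirr' (v₀ := π ⟨w₀, hw⟩) (fun h => hw0 ((hπ1 _).mp h))
  let f : G → F := fun g => if h : g ∈ K then e (π ⟨g, h⟩) else 0
  have hf : ∀ a : K, f a = e (π a) := fun a => dif_pos a.2
  have he0 : e 1 = 0 := by
    have := hadd 1 1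
    rw [one_mul] at this
    exact left_eq_add.mp this
  have hψu : ψ 1 = 1 := (hψ1 1).mpr hone
  let χ : U →* Fˣ :=
    { toFun := fun u => Units.mk0 (ψ u) (hne u)
      map_one' := Units.ext hψu
      map_mul' := fun u v => Units.ext (hψmul u v) }
  refine ⟨F, inferInstance, inferInstance, f, χ, hcard, fun y => ?_, fun h hh => ?_,
    fun a ha b hb => ?_, (hf ⟨w₀, hw⟩).trans he1, fun u h hh => ?_, fun u => ?_⟩
  · obtain ⟨x, rfl⟩ := hbij.2 y
    obtain ⟨a, rfl⟩ := QuotientGroup.mk'_surjective _ x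
    exact ⟨a, a.2, hf a⟩
  · rw [hf ⟨h, hh⟩, ← he0, hbij.1.eq_iff]
    exact hπ1 _
  · rw [hf ⟨a, ha⟩, hf ⟨b, hb⟩, ← hadd, ← map_mul]
    exact hf (⟨a, ha⟩ * ⟨b, hb⟩)
  · rw [hf ⟨h, hh⟩]
    exact (hf (conjEnd K u (hUK u.2) ⟨h, hh⟩)).trans (hact u (π ⟨h, hh⟩))
  · refine Units.ext_iff.trans ((hψ1 u).trans ⟨fun hx h hh => ?_, fun hx x => ?_⟩)
    · exact (hπ _ _).mp (hx (π ⟨h, hh⟩))
    · obtain ⟨a, rfl⟩ := QuotientGroup.mk'_surjective _ x
      exact (hπ _ _).mpr (hx a a.2)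

end Cfsg.Agent.OddChar.TypeP
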