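import Cfsg.Agent.OddChar.TypeP.Interfaces
import Cfsg.Agent.OddChar.TypeP.SectionScalar

/-!
# Peterfalvi (9.7): the action of `U` on the chief factor `H/H₀`
-/

set_option autoImplicit false

namespace Cfsg.Agent.OddChar.TypeP

open Cfsg Subgroup
open scoped commutatorElement

universe u

variable {G : Type u} [Group G] [Finite G] {M W₁ U W₂ H₀ C : Subgroup G} {r : ℕ}

theorem chief_mem_C (d : ChiefData M W₁ U W₂ H₀ C r) {u : G} :
    u ∈ C ↔ u ∈ U ∧ ∀ h ∈ fittingHallOf M, u * h * u⁻¹ * h⁻¹ ∈ H₀ :=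
  Set.ext_iff.mp d.cent u

theorem chief_C_le (d : ChiefData M W₁ U W₂ H₀ C r) : C ≤ U := fun _ hu => ((chief_mem_C d).mp hu).1

theorem chief_commutator_trivial (d : ChiefData M W₁ U W₂ H₀ C r) :
    ∀ u ∈ U, ∀ v ∈ U, ∀ h ∈ fittingHallOf M, ⁅u, v⁆ * h * ⁅u, v⁆⁻¹ * h⁻¹ ∈ H₀ :=
  fun _ hu _ hv => ((chief_mem_C d).mp (d.derived_le (commutator_mem_commutator hu hv))).2

theorem relIndex_eq_card_range {K U : Subgroup G} {Z : Type*} [Group Z] (χ : U →* Z)
    (h : ∀ u : U, (u : G) ∈ K ↔ χ u = 1) : K.relIndex U = Nat.card χ.range := by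
  rw [← Subgroup.index_ker]
  refine congrArg Subgroup.index (Subgroup.ext fun u => ?_)
  exact (h u).trans MonoidHom.mem_ker.symm

theorem galois_case (hP : IsTypePWith M W₁ U W₂) (hq : (Nat.card W₁).Prime)
    (d : ChiefData M W₁ U W₂ H₀ C r)
    (hirr : ∀ N : Subgroup G, U ≤ normalizer (N : Set G) → H₀ ≤ N → N ≤ fittingHallOf M →
      N = H₀ ∨ N = fittingHallOf M) :
    GaloisData M W₁ U W₂ H₀ C r := by
  classical
  set H := fittingHallOf M with hH
  set q := Nat.card W₁ with hqdef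
  have hr := d.prime
  have := Fact.mk hr
  have hUH : U ≤ normalizer (H : Set G) := (U_le_M hP).trans (M_le_normalizer_H M)
  have hU0 : U ≤ normalizer (H₀ : Set G) := (U_le_M hP).trans d.normal
  have hidx : H₀.relIndex H = r ^ q :=
    Nat.eq_of_mul_eq_mul_left Nat.card_pos ((card_mul_relIndex d.le).trans d.card)
  obtain ⟨w₀, hw₀, hw₀0⟩ : ∃ w₀ ∈ W₂, w₀ ∉ H₀ := by
    by_contra hcon
    push Not at hcon
    exact hr.one_lt.ne' (d.card_W₂.symm.trans (relIndex_eq_one.mpr hcon))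
  obtain ⟨F, _, _, f, χ, hcard, hsurj, hzero, hadd, hf1, hact, hker⟩ :=
    exists_section_field d.le d.abelian hUH hU0 (chief_commutator_trivial d) hirr
      (W₂_le_H hP hw₀) hw₀0
  have hC : ∀ u : U, (u : G) ∈ C ↔ χ u = 1 := fun u =>
    (chief_mem_C d).trans ⟨fun h => (hker u).mpr h.2, fun h => ⟨u.2, (hker u).mp h⟩⟩
  have hf0 : f 1 = 0 := (hzero 1 (one_mem _)).mpr (one_mem _)
  have hfpow : ∀ h ∈ H, ∀ k : ℕ, f (h ^ k) = k * f h := by
    intro h hh k
    induction k with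
    | zero => rw [pow_zero, hf0, Nat.cast_zero, zero_mul]
    | succ k ih => rw [pow_succ, hadd _ (pow_mem hh k) _ hh, ih, Nat.cast_succ, add_mul, one_mul]
  have hchar : CharP F r := by
    refine (CharP.charP_iff_prime_eq_zero hr).mpr ?_
    rw [← mul_one (r : F), ← hf1, ← hfpow _ (W₂_le_H hP hw₀)]
    exact (hzero _ (pow_mem (W₂_le_H hP hw₀) r)).mpr (d.pow _ (W₂_le_H hP hw₀))
  have hunits : Nat.card Fˣ = r ^ q - 1 := by
    rw [Nat.card_units, Nat.card_eq_fintype_card, hcard, hidx]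
  have hW : W₁ ≤ normalizer (U : Set G) := hP.U_normal
  -- a scalar in the prime field has equal conjugates under `W₁`
  have hprime : ∀ (u : U) (k : ℕ), (χ u : F) = k → ∀ w : W₁, (χ (conjU hW w u) : F) = k := by
    intro u k hk w
    have hwH := M_le_normalizer_H M (W₁_le_M hP w.2)
    have hw0 := d.normal (W₁_le_M hP w.2)
    set h' : G := (w : G)⁻¹ * w₀ * w with hh'
    have hh'H : h' ∈ H := (mem_normalizer_iff''.mp hwH w₀).mp (W₂_le_H hP hw₀)
    have h1 : (u : G) * h' * (u : G)⁻¹ * (h' ^ k)⁻¹ ∈ H₀ := by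
      have hmem : (u : G) * h' * (u : G)⁻¹ ∈ H := (mem_normalizer_iff.mp (hUH u.2) h').mp hh'H
      refine (hzero _ (mul_mem hmem (inv_mem (pow_mem hh'H k)))).mp ?_
      have h := hadd _ (mul_mem hmem (inv_mem (pow_mem hh'H k))) _ (pow_mem hh'H k)
      rw [inv_mul_cancel_right, hact u h' hh'H, hk, hfpow h' hh'H] at h
      exact right_eq_add.mp h
    have h2 := (mem_normalizer_iff.mp hw0 _).mp h1
    have hmem : (conjU hW w u : G) * w₀ * (conjU hW w u : G)⁻¹ ∈ H :=
      (mem_normalizer_iff.mp (hUH (conjU hW w u).2) w₀).mp (W₂_le_H hP hw₀)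
    have h3 : (conjU hW w u : G) * w₀ * (conjU hW w u : G)⁻¹ * (w₀ ^ k)⁻¹ ∈ H₀ := by
      have hk' : (w : G) * (h' ^ k)⁻¹ * (w : G)⁻¹ = (w₀ ^ k)⁻¹ := by
        rw [← conj_inv, ← conj_pow, hh']
        congr 2
        group
      convert h2 using 1
      change (w : G) * u * (w : G)⁻¹ * w₀ * ((w : G) * u * (w : G)⁻¹)⁻¹ * (w₀ ^ k)⁻¹ = _
      rw [← hk', hh']
      group
    have hpk := pow_mem (W₂_le_H hP hw₀) k
    have h4 := hadd _ (mul_mem hmem (inv_mem hpk)) _ hpk
    rw [inv_mul_cancel_right, (hzero _ (mul_mem hmem (inv_mem hpk))).mpr h3, zero_add,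
      hact _ _ (W₂_le_H hP hw₀), hfpow _ (W₂_le_H hP hw₀), hf1, mul_one, mul_one] at h4
    exact h4
  have hrange : C.relIndex U = Nat.card χ.range := relIndex_eq_card_range χ hC
  obtain ⟨a, ha, ha1⟩ := W₁.ne_bot_iff_exists_ne_one.mp hP.W₁_ne |>
    fun ⟨x, hx⟩ => (⟨(x : G), x.2, fun e => hx (Subtype.ext e)⟩ : ∃ a ∈ W₁, a ≠ (1 : G))
  have := Fintype.ofFinite W₁
  have hcop : (C.relIndex U).Coprime (r - 1) := by
    refine Nat.coprime_of_dvd fun l hl h1 h2 => ?_
    have := Fact.mk hl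
    rw [hrange] at h1
    obtain ⟨⟨_, u, rfl⟩, hx⟩ := exists_prime_orderOf_dvd_card' l h1
    rw [← orderOf_coe] at hx
    change orderOf (χ u) = l at hx
    have hpow : χ u ^ (r - 1) = 1 := by
      rw [← orderOf_dvd_iff_pow_eq_one, hx]; exact h2
    obtain ⟨k, hk⟩ := exists_natCast_of_pow_eq (r := r) (x := (χ u : F)) (by
      have h := congrArg (fun z : Fˣ => (z : F) * (χ u : F)) hpow
      simp only [Units.val_pow_eq_pow_val, Units.val_one, one_mul, ← pow_succ,
        Nat.sub_add_cancel hr.one_lt.le] at h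
      exact h)
    have hp := prod_conj_eq_one hW ha (exists_eq_commutator hP ha ha1) χ u
    rw [Finset.prod_congr rfl (fun w _ => Units.ext ((hprime u k hk w).trans hk.symm) :
      ∀ w ∈ Finset.univ, χ (conjU hW w u) = χ u), Finset.prod_const, Finset.card_univ,
      ← Nat.card_eq_fintype_card, ← orderOf_dvd_iff_pow_eq_one, hx] at hp
    have hlq : l = q := (Nat.prime_dvd_prime_iff_eq hl hq).mp hp
    have hlU : l ∣ Nat.card U := h1.trans (by rw [← hrange]; exact Subgroup.index_dvd_card _)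
    exact hl.one_lt.ne' (Nat.eq_one_of_dvd_coprimes (coprime_U_W₁ hP) hlU (dvd_of_eq hlq))
  refine
    { irreducible := hirr
      cyclic := ?_
      dvd := ?_
      coprime := hcop
      free := ?_
      field := ?_ }
  · obtain ⟨⟨_, u, rfl⟩, hg⟩ := IsCyclic.exists_generator (α := χ.range)
    refine ⟨u, u.2, fun v hv => ?_⟩
    obtain ⟨n, hn⟩ := mem_zpowers_iff.mp (hg ⟨χ ⟨v, hv⟩, ⟨v, hv⟩, rfl⟩)
    refine ⟨-n, ?_⟩
    have h : (((⟨v, hv⟩ : U) * u ^ (-n) : U) : G) ∈ C := by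
      rw [hC, map_mul, map_zpow, zpow_neg, mul_inv_eq_one]
      exact (congrArg Subtype.val hn).symm
    exact h
  · refine hcop.mul_dvd_of_dvd_of_dvd ?_ ?_
    · rw [hrange, ← hunits]; exact Subgroup.card_subgroup_dvd_card _
    · have h := Nat.sub_dvd_pow_sub_pow r 1 q
      rwa [one_pow] at h
  · intro u hu huC h hh hmem
    by_contra hh0
    refine huC ((hC ⟨u, hu⟩).mpr (Units.ext ?_))
    have hmemH : u * h * u⁻¹ ∈ H := (mem_normalizer_iff.mp (hUH hu) h).mp hh
    have h1 := hadd _ (mul_mem hmemH (inv_mem hh)) _ hh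
    rw [inv_mul_cancel_right, (hzero _ (mul_mem hmemH (inv_mem hh))).mpr hmem, zero_add,
      hact ⟨u, hu⟩ h hh] at h1
    exact (mul_eq_right₀ fun e => hh0 ((hzero h hh).mp e)).mp h1
  · refine ⟨F, inferInstance, inferInstance, f, fun g => if hg : g ∈ U then (χ ⟨g, hg⟩ : F) else 0,
      hcard.trans hidx, hsurj, hzero, hadd, fun u hu => ?_, fun u hu v hv => ?_, fun u hu => ?_, ?_⟩
    · simp only [dif_pos hu]
      exact ⟨Units.ne_zero _, hact ⟨u, hu⟩⟩
    · simp only [dif_pos hu, dif_pos hv, dif_pos (mul_mem hu hv)]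
      exact congrArg Units.val (map_mul χ ⟨u, hu⟩ ⟨v, hv⟩)
    · simp only [dif_pos hu]
      rw [Units.val_eq_one]
      exact (hC ⟨u, hu⟩).symm
    · intro x hx
      have : (H₀.subgroupOf W₂).Normal :=
        normal_subgroupOf_of_le_normalizer
          ((W₂_le_H hP).trans (le_normalizer_between d.abelian le_rfl d.le))
      have hne : QuotientGroup.mk' (H₀.subgroupOf W₂) ⟨w₀, hw₀⟩ ≠ 1 := fun e =>
        hw₀0 (mem_subgroupOf.mp ((QuotientGroup.eq_one_iff _).mp e))
      obtain ⟨k, hk⟩ := Submonoid.mem_powers_iff _ _ |>.mp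
        (mem_powers_of_prime_card (p := r) d.card_W₂ hne
          (g' := QuotientGroup.mk' (H₀.subgroupOf W₂) ⟨x, hx⟩))
      rw [← map_pow, QuotientGroup.mk'_apply, QuotientGroup.mk'_apply, QuotientGroup.eq,
        mem_subgroupOf] at hk
      have hmem : (w₀ ^ k)⁻¹ * x ∈ H₀ := by simpa using hk
      have hpk := pow_mem (W₂_le_H hP hw₀) k
      have h1 := hadd _ hpk _ (d.le hmem)
      rw [mul_inv_cancel_left, hfpow _ (W₂_le_H hP hw₀), hf1, mul_one,
        (hzero _ (d.le hmem)).mpr hmem, add_zero] at h1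
      rw [h1, ← frobenius_def, map_natCast]

/-- The conjugates of a minimal `U`-invariant subgroup are lines. -/
theorem exists_line (hP : IsTypePWith M W₁ U W₂) (hq : (Nat.card W₁).Prime)
    (d : ChiefData M W₁ U W₂ H₀ C r) {N₂ : Subgroup G} (h2U : U ≤ normalizer (N₂ : Set G))
    (h2le : H₀ ≤ N₂) (h2H : N₂ ≤ fittingHallOf M) (h2ne : N₂ ≠ H₀) (h2ne' : N₂ ≠ fittingHallOf M) :
    ∃ H₁ : Subgroup G, H₀ ≤ H₁ ∧ H₁ ≤ fittingHallOf M ∧ U ≤ normalizer (H₁ : Set G) ∧
      H₀.relIndex H₁ = r ∧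
      (⨆ w ∈ W₁, H₁.map (MulAut.conj w).toMonoidHom) = fittingHallOf M := by
  classical
  set H := fittingHallOf M with hH
  set q := Nat.card W₁ with hqdef
  have hr := d.prime
  have hidx : H₀.relIndex H = r ^ q :=
    Nat.eq_of_mul_eq_mul_left Nat.card_pos ((card_mul_relIndex d.le).trans d.card)
  obtain ⟨N, hN2, hmin⟩ := Finite.exists_le_minimal
    (p := fun N : Subgroup G => U ≤ normalizer (N : Set G) ∧ H₀ ≤ N ∧ N ≠ H₀) ⟨h2U, h2le, h2ne⟩
  obtain ⟨hNU, hN0, hNne⟩ := hmin.prop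
  have hNH : N ≤ H := hN2.trans h2H
  let Nw : W₁ → Subgroup G := fun w => N.map (MulAut.conj (w : G)).toMonoidHom
  have hwM : ∀ w : W₁, (w : G) ∈ M := fun w => W₁_le_M hP w.2
  have hmem : ∀ (w : W₁) (x : G), x ∈ Nw w ↔ (w : G)⁻¹ * x * w ∈ N := fun w x => by
    simp only [Nw, mem_map, MulEquiv.coe_toMonoidHom, MulAut.conj_apply]
    refine ⟨?_, fun h => ⟨_, h, by group⟩⟩
    rintro ⟨y, hy, rfl⟩
    simpa [mul_assoc] using hy
  have h0w : ∀ w, H₀ ≤ Nw w := fun w x hx =>
    (hmem w x).mpr (hN0 ((mem_normalizer_iff''.mp (d.normal (hwM w)) x).mp hx))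
  have hwH : ∀ w, Nw w ≤ H := fun w x hx =>
    (mem_normalizer_iff''.mp (M_le_normalizer_H M (hwM w)) x).mpr (hNH ((hmem w x).mp hx))
  have hUw : ∀ w, U ≤ normalizer (Nw w : Set G) := fun w u hu => by
    refine mem_normalizer_fintype fun x hx => (hmem w _).mpr ?_
    have hv : (w : G)⁻¹ * u * w ∈ U := (mem_normalizer_iff''.mp (hP.U_normal w.2) u).mp hu
    have h := (mem_normalizer_iff.mp (hNU hv) _).mp ((hmem w x).mp hx)
    convert h using 1
    group
  have hminw : ∀ (w : W₁) (X : Subgroup G), U ≤ normalizer (X : Set G) → H₀ ≤ X → X ≤ Nw w →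
      X = H₀ ∨ X = Nw w := by
    intro w X hXU hX0 hXw
    by_cases hX : X = H₀
    · exact Or.inl hX
    refine Or.inr (le_antisymm hXw ?_)
    set Y := X.map (MulAut.conj (w : G)⁻¹).toMonoidHom with hY
    have hmemY : ∀ x, x ∈ Y ↔ (w : G) * x * (w : G)⁻¹ ∈ X := fun x => by
      simp only [hY, mem_map, MulEquiv.coe_toMonoidHom, MulAut.conj_apply, inv_inv]
      refine ⟨?_, fun h => ⟨_, h, by group⟩⟩
      rintro ⟨y, hy, rfl⟩
      simpa [mul_assoc] using hy
    have hYN : Y ≤ N := fun x hx => by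
      have h := (hmem w _).mp (hXw ((hmemY x).mp hx))
      simpa [mul_assoc] using h
    have hY0 : H₀ ≤ Y := fun x hx =>
      (hmemY x).mpr (hX0 ((mem_normalizer_iff.mp (d.normal (hwM w)) x).mp hx))
    have hYU : U ≤ normalizer (Y : Set G) := fun u hu => by
      refine mem_normalizer_fintype fun x hx => (hmemY _).mpr ?_
      have hv : (w : G) * u * (w : G)⁻¹ ∈ U := (mem_normalizer_iff.mp (hP.U_normal w.2) u).mp hu
      have h := (mem_normalizer_iff.mp (hXU hv) _).mp ((hmemY x).mp hx)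
      convert h using 1
      group
    have hYne : Y ≠ H₀ := fun e => hX (le_antisymm (fun x hx => by
      have hy : (w : G)⁻¹ * x * w ∈ Y := (hmemY _).mpr (by simpa [mul_assoc] using hx)
      rw [e] at hy
      exact (mem_normalizer_iff''.mp (d.normal (hwM w)) x).mpr hy) hX0)
    have hYeq : N ≤ Y := hmin.le_of_le ⟨hYU, hY0, hYne⟩ hYN
    intro x hx
    have h := (hmemY _).mp (hYeq ((hmem w x).mp hx))
    simpa [mul_assoc] using h
  -- the dimension of `N`
  obtain ⟨n, -, hn⟩ := (Nat.dvd_prime_pow hr).mp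
    (hidx ▸ Dvd.intro _ (relIndex_mul_relIndex H₀ N H hN0 hNH) : H₀.relIndex N ∣ r ^ q)
  have hNw : ∀ w, Nat.card (Nw w) = Nat.card H₀ * r ^ n := fun w => by
    rw [← hn, card_mul_relIndex hN0]
    exact card_map_of_injective (MulAut.conj (w : G)).injective
  -- partial joins
  have hjoin : ∀ S : Finset W₁, H₀ ⊔ S.sup Nw ≤ H ∧ U ≤ normalizer ((H₀ ⊔ S.sup Nw : Subgroup G) : Set G) ∧
      ∃ m, Nat.card ↥(H₀ ⊔ S.sup Nw) = Nat.card H₀ * r ^ (n * m) := by
    intro S
    induction S using Finset.induction with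
    | empty =>
      rw [Finset.sup_empty, sup_bot_eq]
      exact ⟨d.le, (U_le_M hP).trans d.normal, 0, by simp⟩
    | insert w S _ ih =>
      obtain ⟨hle, hnU, m, hm⟩ := ih
      rw [Finset.sup_insert, sup_comm (Nw w), ← sup_assoc]
      set J := H₀ ⊔ S.sup Nw with hJ
      refine ⟨sup_le hle (hwH w), le_trans (le_inf hnU (hUw w)) (normalizer_inf_normalizer_le_normalizer_sup J (Nw w)), ?_⟩
      have hJU : U ≤ normalizer ((J ⊓ Nw w : Subgroup G) : Set G) :=
        le_trans (le_inf hnU (hUw w)) inf_normalizer_le_normalizer_inf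
      rcases hminw w (J ⊓ Nw w) hJU (le_inf le_sup_left (h0w w)) inf_le_right with e | e
      · refine ⟨m + 1, ?_⟩
        have h := card_sup_mul_inf (A := J) (B := Nw w)
          ((hwH w).trans (le_normalizer_between d.abelian le_sup_left hle))
        rw [e, hm, hNw] at h
        refine Nat.eq_of_mul_eq_mul_right (Nat.card_pos (α := H₀)) (h.trans ?_)
        ring
      · exact ⟨m, by rw [sup_eq_left.mpr (inf_eq_right.mp e), hm]⟩
  have := Fintype.ofFinite W₁
  obtain ⟨hJle, hJU, m, hm⟩ := hjoin Finset.univ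
  set J := H₀ ⊔ (Finset.univ : Finset W₁).sup Nw with hJ
  have hNwJ : ∀ w, Nw w ≤ J := fun w => le_sup_of_le_right (Finset.le_sup (Finset.mem_univ w))
  have hJW : W₁ ≤ normalizer (J : Set G) := fun v hv => by
    refine mem_normalizer_fintype fun x hx => ?_
    have hle : J ≤ J.comap (MulAut.conj v).toMonoidHom := by
      refine sup_le (fun y hy => ?_) (Finset.sup_le fun w _ y hy => ?_)
      · exact le_sup_left (b := Finset.univ.sup Nw)
          ((mem_normalizer_iff.mp (d.normal (W₁_le_M hP hv)) y).mp hy)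
      · refine hNwJ ⟨v * w, mul_mem hv w.2⟩ ((hmem _ _).mpr ?_)
        have h := (hmem w y).mp hy
        simpa [mul_assoc] using h
    exact hle hx
  have hJeq : J = H := by
    refine (d.minimal J (M_le_of_parts hP (le_normalizer_between d.abelian le_sup_left hJle)
      hJU hJW) le_sup_left hJle).resolve_left fun e => hNne (le_antisymm ?_ hN0)
    intro x hx
    exact e ▸ hNwJ 1 ((hmem 1 x).mpr (by simpa using hx))
  rw [hJeq, d.card] at hm
  have hnm : q = n * m :=
    Nat.pow_right_injective hr.two_le (Nat.eq_of_mul_eq_mul_left Nat.card_pos hm)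
  have hn1 : n = 1 := by
    refine (hq.eq_one_or_self_of_dvd n ⟨m, hnm⟩).resolve_right fun e => h2ne' ?_
    refine le_antisymm h2H (le_trans ?_ hN2)
    refine (eq_of_le_of_card_ge hNH ?_).ge
    rw [d.card, ← hqdef, ← e, ← hn, card_mul_relIndex hN0]
  refine ⟨N, hN0, hNH, hNU, by rw [hn, hn1, pow_one], le_antisymm ?_ ?_⟩
  · exact iSup₂_le fun w hw => hwH ⟨w, hw⟩
  · rw [← hJeq]
    refine sup_le ?_ (Finset.sup_le fun w _ =>
      le_iSup₂ (f := fun (w : G) (_ : w ∈ W₁) => N.map (MulAut.conj w).toMonoidHom) (w : G) w.2)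
    exact (h0w 1).trans
      (le_iSup₂ (f := fun (w : G) (_ : w ∈ W₁) => N.map (MulAut.conj w).toMonoidHom) (1 : G)
        (one_mem _))

theorem split_case (hP : IsTypePWith M W₁ U W₂) (d : ChiefData M W₁ U W₂ H₀ C r) {H₁ : Subgroup G}
    (h01 : H₀ ≤ H₁) (h1H : H₁ ≤ fittingHallOf M) (h1U : U ≤ normalizer (H₁ : Set G))
    (hline : H₀.relIndex H₁ = r)
    (hspan : (⨆ w ∈ W₁, H₁.map (MulAut.conj w).toMonoidHom) = fittingHallOf M) :
    ∃ C₁ a, SplitData M W₁ U W₂ H₀ C H₁ C₁ r a := by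
  classical
  set H := fittingHallOf M with hH
  have hr := d.prime
  have hU0 : U ≤ normalizer (H₀ : Set G) := (U_le_M hP).trans d.normal
  have hirr : ∀ N : Subgroup G, U ≤ normalizer (N : Set G) → H₀ ≤ N → N ≤ H₁ →
      N = H₀ ∨ N = H₁ := by
    intro N _ h0 h1
    have h := relIndex_mul_relIndex H₀ N H₁ h0 h1
    rw [hline] at h
    rcases hr.eq_one_or_self_of_dvd _ (Dvd.intro _ h) with e | e
    · exact Or.inl (le_antisymm (relIndex_eq_one.mp e) h0)
    · right
      rw [e] at h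
      exact le_antisymm h1
        (relIndex_eq_one.mp (Nat.eq_of_mul_eq_mul_left hr.pos (h.trans (mul_one r).symm)))
  obtain ⟨x₁, hx₁, hx₁0⟩ : ∃ x ∈ H₁, x ∉ H₀ := by
    by_contra hcon
    push Not at hcon
    exact hr.one_lt.ne' (hline.symm.trans (relIndex_eq_one.mpr hcon))
  obtain ⟨F, _, _, f, χ, hcard, -, -, -, -, -, hker⟩ :=
    exists_section_field h01 (fun a ha b hb => d.abelian a (h1H ha) b (h1H hb)) h1U hU0
      (fun u hu v hv h hh => chief_commutator_trivial d u hu v hv h (h1H hh)) hirr hx₁ hx₁0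
  set C₁ := secCent U H₁ H₀ h1U hU0 with hC₁def
  have hC₁ : ∀ u : U, (u : G) ∈ C₁ ↔ χ u = 1 := fun u =>
    ⟨fun h => (hker u).mpr h.2, fun h => ⟨u.2, (hker u).mp h⟩⟩
  have hW : W₁ ≤ normalizer (U : Set G) := hP.U_normal
  have hC₁C : ∀ u, u ∈ C ↔ ∀ w ∈ W₁, w * u * w⁻¹ ∈ C₁ := by
    intro u
    constructor
    · intro hu w hw
      have h := (chief_mem_C d).mp
        ((mem_normalizer_iff.mp (d.normal_cent (mem_sup_right hw)) u).mp hu)
      exact ⟨h.1, fun h' hh' => h.2 h' (h1H hh')⟩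
    · intro hu
      have huU : u ∈ U := by simpa using (hu 1 (one_mem _)).1
      refine (chief_mem_C d).mpr ⟨huU, fun h hh => ?_⟩
      have hzU : zpowers u ≤ U := zpowers_le.mpr huU
      have hz : ∀ v ∈ zpowers u, ∀ w ∈ W₁, w * v * w⁻¹ ∈ C₁ := by
        intro v hv w hw
        obtain ⟨k, rfl⟩ := mem_zpowers_iff.mp hv
        rw [← conj_zpow]
        exact zpow_mem (hu w hw) k
      have hHn := le_normalizer_between d.abelian le_rfl d.le
      have hle : (⨆ w ∈ W₁, H₁.map (MulAut.conj w).toMonoidHom) ≤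
          secFix (zpowers u) H H₀ hHn := by
        refine iSup₂_le fun w hw => ?_
        rintro _ ⟨y, hy, rfl⟩
        have hwM := W₁_le_M hP hw
        refine ⟨(mem_normalizer_iff.mp (M_le_normalizer_H M hwM) y).mp (h1H hy), fun v hv => ?_⟩
        have h := (mem_normalizer_iff.mp (d.normal hwM) _).mp
          ((hz v hv w⁻¹ (inv_mem hw)).2 y hy)
        convert h using 1
        change v * (w * y * w⁻¹) * v⁻¹ * (w * y * w⁻¹)⁻¹ = _
        group
      rw [hspan] at hle
      exact (hle hh).2 u (mem_zpowers u)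
  have ha : C₁.relIndex U = Nat.card χ.range := relIndex_eq_card_range χ hC₁
  set a := C₁.relIndex U with hadef
  obtain ⟨w₁, hw₁, hw₁1⟩ := W₁.ne_bot_iff_exists_ne_one.mp hP.W₁_ne |>
    fun ⟨x, hx⟩ => (⟨(x : G), x.2, fun e => hx (Subtype.ext e)⟩ : ∃ a ∈ W₁, a ≠ (1 : G))
  have := Fintype.ofFinite W₁
  have hprod := prod_conj_eq_one hW hw₁ (exists_eq_commutator hP hw₁ hw₁1) χ
  have hone_lt : 1 < a := by
    refine lt_of_le_of_ne (Nat.one_le_iff_ne_zero.mpr (by rw [ha]; exact Nat.card_pos.ne')) ?_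
    intro e
    refine d.cent_ne (le_antisymm (chief_C_le d) fun u hu => (hC₁C u).mpr fun w hw => ?_)
    exact (relIndex_eq_one.mp e.symm) ((mem_normalizer_iff.mp (hW hw) u).mp hu)
  let Φ : U →* ({w : W₁ // w ≠ 1} → χ.range) :=
    { toFun := fun u w => χ.rangeRestrict (conjU hW w.1 u)
      map_one' := funext fun w => by simp
      map_mul' := fun u v => funext fun w => by simp }
  have hΦ : ∀ u : U, Φ u = 1 ↔ (u : G) ∈ C := by
    intro u
    rw [hC₁C]
    constructor
    · intro h w hw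
      have h1 : ∀ w : W₁, w ≠ 1 → χ (conjU hW w u) = 1 := fun w hw =>
        congrArg Subtype.val (congrFun h ⟨w, hw⟩)
      refine (hC₁ (conjU hW ⟨w, hw⟩ u)).mpr ?_
      by_cases e : (⟨w, hw⟩ : W₁) = 1
      · rw [e]
        have h2 := hprod u
        rwa [Fintype.prod_eq_single (1 : W₁) h1] at h2
      · exact h1 _ e
    · intro h
      funext w
      exact Subtype.ext ((hC₁ (conjU hW w.1 u)).mp (h _ w.1.2))
  refine ⟨C₁, a,
    { le₀ := h01
      le := h1H
      normal := h1U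
      line := hline
      span := hspan
      cent₁ := rfl
      index₁ := rfl
      one_lt := hone_lt
      dvd := ?_
      cent_eq := Set.ext fun u => hC₁C u
      pow := ?_
      index_dvd := ?_ }⟩
  · rw [ha, ← hline, ← hcard, ← Nat.card_eq_fintype_card, ← Nat.card_units]
    exact Subgroup.card_subgroup_dvd_card _
  · intro u hu
    have h : (((⟨u, hu⟩ : U) ^ a : U) : G) ∈ C := by
      refine (hΦ _).mp ?_
      rw [map_pow]
      funext w
      rw [Pi.pow_apply, ha]
      exact pow_card_eq_one'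
    exact h
  · rw [relIndex_eq_card_range Φ (fun u => (hΦ u).symm)]
    refine (Subgroup.card_subgroup_dvd_card _).trans (dvd_of_eq ?_)
    rw [Nat.card_fun, ← ha, Nat.card_eq_fintype_card, Fintype.card_subtype_compl,
      Fintype.card_subtype_eq, ← Nat.card_eq_fintype_card]

theorem dichotomyStatement_proof : DichotomyStatement.{u} := by
  intro G _ _ hG M W₁ U W₂ H₀ C r hM hP hq d
  classical
  by_cases hirr : ∀ N : Subgroup G, U ≤ normalizer (N : Set G) → H₀ ≤ N → N ≤ fittingHallOf M →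
      N = H₀ ∨ N = fittingHallOf M
  · exact Or.inl (galois_case hP hq d hirr)
  · push Not at hirr
    obtain ⟨N, hNU, h0N, hNH, hne, hne'⟩ := hirr
    obtain ⟨H₁, h01, h1H, h1U, hline, hspan⟩ := exists_line hP hq d hNU h0N hNH hne hne'
    obtain ⟨C₁, a, h⟩ := split_case hP d h01 h1H h1U hline hspan
    exact Or.inr ⟨H₁, C₁, a, h⟩

end Cfsg.Agent.OddChar.TypeP
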