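import Cfsg.Agent.OddChar.TypeP.Interfaces
import Cfsg.Agent.OddChar.TypeOne.Gap.Supports
import Cfsg.Agent.OddLocal.TypeTwoTI

/-!
# The covering of `G` (Peterfalvi 8.17)
-/

set_option autoImplicit false
set_option linter.unusedSectionVars false

namespace Cfsg.Agent.OddChar.TypeP

open Cfsg Subgroup
open Cfsg.Agent.OddLocal Cfsg.Agent.OddLocal.SigmaParts
open Cfsg.Agent.Transfer.Fusion (map_conj_eq_self_iff)

universe u

variable {G : Type u} [Group G] [Finite G] {S T W₁ W₂ U V : Subgroup G}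

/-- Type `P` data give a Hall `κ`-subgroup and its fixed points. -/
theorem hall_of_typeP (hG : IsMinSimpleOddOrder G) (hS : IsCoatom S) (hP : IsTypePWith S W₁ U W₂) :
    IsPiHallOf (kappa S) W₁ S ∧ W₂ = PType.star S W₁ := by
  obtain ⟨K, U₀, hKU⟩ := Fcore.exists_decomp hG hS
  have hK1 := Types.K_ne_bot_of_typeP hG hS hKU hP
  obtain ⟨m, hm, e1, e2⟩ := TypeTwo.data_conj hG hS hKU hK1 hP
  have hfix : S.map (MulAut.conj m).toMonoidHom = S := (mem_iff_conj_eq hG hS).mp hm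
  have h1 := PType.hall_map hG hKU.hall m
  have h2 := PType.star_map (M := S) (K := K) m
  rw [hfix, ← e1] at h1 h2
  exact ⟨h1, e2.trans h2.symm⟩

/-- The two maximal subgroups of the data form a pair. -/
theorem pair_of_typeP (hG : IsMinSimpleOddOrder G) (hS : IsCoatom S) (hT : IsCoatom T)
    (hP : IsTypePWith S W₁ U W₂) (hQ : IsTypePWith T W₂ V W₁) :
    PType.Pair S W₁ T ∧ W₂ = PType.star S W₁ := by
  obtain ⟨hK, hW₂⟩ := hall_of_typeP hG hS hP
  obtain ⟨-, hW₁⟩ := hall_of_typeP hG hT hQ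
  obtain ⟨H, h⟩ := PType.exists_pair hG hS hK hP.W₁_ne
  obtain rfl := h.unique hG hT (hW₁.le.trans inf_le_left)
  exact ⟨h, hW₂⟩

theorem tilde_conj_subset (hG : IsMinSimpleOddOrder G) {M : Subgroup G} (hM : IsCoatom M) (g : G) :
    tildeOf (M.map (MulAut.conj g).toMonoidHom)
      ((sigmaCore (M.map (MulAut.conj g).toMonoidHom) : Set G) \ {1}) ⊆
      tildeOf M ((sigmaCore M : Set G) \ {1}) := by
  intro z hz
  obtain ⟨a, ⟨ha, ha1⟩, r, hr, y, rfl⟩ := SupportR.mem_tilde.mp hz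
  rw [SetLike.mem_coe, sigmaCore_map] at ha
  obtain ⟨b, hb, rfl⟩ := ha
  have hb1 : b ≠ 1 := fun e => ha1 (by simp [e])
  have e1 : (MulAut.conj g).toMonoidHom b = g * b * g⁻¹ := rfl
  rw [e1, SupportR.supportR_conj hG hM hb hb1] at hr
  obtain ⟨s, hs, rfl⟩ := hr
  refine SupportR.mem_tilde.mpr ⟨b, ⟨hb, hb1⟩, s, hs, y * g, ?_⟩
  show y * (g * b * g⁻¹ * (g * s * g⁻¹)) * y⁻¹ = _
  group

/-- `G` is covered. -/
theorem cover : CoverStatement.{u} := by
  intro G _ _ hG S T W₁ W₂ U V hS hT hP hQ _ g hg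
  obtain ⟨h, hW₂⟩ := pair_of_typeP hG hS hT hP hQ
  rw [TypeOne.Gap.typeA1_eq hG hS, TypeOne.Gap.typeA1_eq hG hT]
  rcases PType.cover hG hg with ⟨L, hL, hgL⟩ | ⟨M', K', H', h', hgZ⟩
  · rcases (kappa L).eq_empty_or_nonempty with hκ | hκ
    · exact Or.inr (Or.inr (Or.inr ⟨L, hL, TypeOne.Gap.typeI_of_kappa hG hL hκ,
        by rwa [TypeOne.Gap.typeA1_eq hG hL]⟩))
    · obtain ⟨K', U', hKU⟩ := Fcore.exists_decomp hG hL
      have hK1 : K' ≠ ⊥ := fun e => Set.not_nonempty_empty (TypeOne.Gap.kappa_eq_empty hKU e ▸ hκ)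
      obtain ⟨H', h'⟩ := PType.exists_pair hG hL hKU.hall hK1
      obtain ⟨c, rfl | rfl⟩ := h.conj_cases hG h'
      exacts [Or.inl (tilde_conj_subset hG hS c hgL), Or.inr (Or.inl (tilde_conj_subset hG hT c hgL))]
  · obtain ⟨c, z, hz, rfl⟩ := h.zhatConj_le hG h' hgZ
    rw [h.zhat_eq hG] at hz
    obtain ⟨hzW, hn⟩ := hz
    rw [← hW₂] at hzW hn
    exact Or.inr (Or.inr (Or.inl ⟨z, hzW, fun e => hn (Or.inl e), fun e => hn (Or.inr e),
      isConj_iff.mpr ⟨c⁻¹, by group⟩⟩))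

end Cfsg.Agent.OddChar.TypeP
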