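import Cfsg.Agent.OddChar.TypeP.Interfaces
import Cfsg.Agent.OddChar.Dade.Sum
import Cfsg.Agent.OddLocal.DadeSets

/-!
# The measure of `Ã` and the facts on `tildeOf` used with it
-/

set_option autoImplicit false

namespace Cfsg.Agent.OddChar.TypeP

open Cfsg Subgroup
open Cfsg.Agent.OddLocal

universe u

variable {G : Type u} [Group G]

theorem tildeOf_eq_support (M : Subgroup G) (A : Set G) :
    tildeOf M A = Dade.support A (supportR M) := by
  ext g
  constructor
  · rintro ⟨a, ha, r, hr, y, rfl⟩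
    exact ⟨a, ha, r, hr, y⁻¹, by group⟩
  · rintro ⟨a, ha, r, hr, x, e⟩
    exact ⟨a, ha, r, hr, x⁻¹, by rw [← e]; group⟩

theorem dade_typeA [Finite G] (hG : IsMinSimpleOddOrder G) {M : Subgroup G} (hM : IsCoatom M)
    {A : Set G} (hA : A = typeA1 M ∨ A = typeA M ∨ A = typeA0 M) :
    DadeHypothesis A M (supportR M) :=
  (DadeSets.main hG hM A hA).2

/-- The size of the support of a Dade set-up. -/
theorem support_ncard [Fintype G] {A : Set G} {L : Subgroup G} {H : G → Subgroup G}
    (hD : DadeHypothesis A L H) :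
    (Dade.support A H).ncard * Nat.card L = A.ncard * Nat.card G := by
  classical
  have key := Dade.sum_support hD (fun _ => 1) fun _ _ => rfl
  have h1 : ∀ a : G, (Nat.card (H a) : ℂ)⁻¹ *
      ∑ u ∈ Finset.univ.filter (fun u => u ∈ H a), (1 : ℂ) = 1 := fun a => by
    rw [Finset.sum_const, nsmul_eq_mul, mul_one, ← Fintype.card_subtype, ← Nat.card_eq_fintype_card,
      inv_mul_cancel₀ (Nat.cast_ne_zero.2 Nat.card_pos.ne')]
  rw [Finset.sum_congr rfl fun a (_ : a ∈ _) => h1 a] at key
  simp only [Finset.sum_const, nsmul_eq_mul, mul_one] at key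
  have hG0 : (Nat.card G : ℂ) ≠ 0 := Nat.cast_ne_zero.2 Nat.card_pos.ne'
  have hL : (Nat.card L : ℂ) ≠ 0 := Nat.cast_ne_zero.2 Nat.card_pos.ne'
  rw [inv_mul_eq_iff_eq_mul₀ hG0, mul_left_comm, eq_inv_mul_iff_mul_eq₀ hL] at key
  have hS : ∀ B : Set G, B.ncard = (Finset.univ.filter fun g => g ∈ B).card := fun B => by
    rw [Set.ncard_eq_toFinset_card']
    congr 1
    ext
    simp
  rw [hS, hS, mul_comm, mul_comm _ (Nat.card G)]
  exact_mod_cast key

/-- The measure of `Ã`. -/
theorem measure : MeasureStatement.{u} := by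
  intro G _ _ hG M A hM hA
  haveI := Fintype.ofFinite G
  rw [tildeOf_eq_support]
  exact support_ncard (dade_typeA hG hM hA)

end Cfsg.Agent.OddChar.TypeP
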