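import Cfsg.Agent.OddChar.TypeP.Interfaces
import Cfsg.Agent.OddChar.TypeP.SibleyPrime.Main

/-!
# Sibley coherence in the prime Frobenius case (Peterfalvi 6.8, case c2)
-/

set_option linter.style.haveILetI false
set_option linter.unusedSectionVars false
set_option autoImplicit false

namespace Cfsg.Agent.OddChar.TypeP

open Cfsg.Agent.OddChar.Coherence Cfsg.Agent.OddChar.TypeP.SibleyPrime

universe u

theorem sibleyPrime : SibleyPrimeStatement.{u} := by
  intro G _ _ L K₀ V₁ V₂ _ hodd hnil₀ hLn hcompl hcop hne₁ hcyc₁ hW₂K hcent hW hTI₀ hN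
  classical
  obtain ⟨hle, hV₁L, hinf, hprod⟩ := hcompl
  have hV₂K₀ : V₂ ≤ K₀ := hW₂K.trans (Subgroup.commutator_le_self K₀)
  have hV₂L : V₂ ≤ L := hV₂K₀.trans hle
  set K := K₀.subgroupOf L with hK
  haveI : K.Normal := (Subgroup.normal_subgroupOf_iff_le_normalizer hle).2 hLn
  set W₁ := V₁.subgroupOf L with hW₁
  set W₂ := V₂.subgroupOf L with hW₂
  have hmap₁ : up L W₁ = V₁ := Subgroup.map_subgroupOf_eq_of_le hV₁L
  have hmap₂ : up L W₂ = V₂ := Subgroup.map_subgroupOf_eq_of_le hV₂L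
  have hcard₁ : Nat.card W₁ = Nat.card V₁ :=
    Nat.card_congr (Subgroup.subgroupOfEquivOfLe hV₁L).toEquiv
  haveI := hcyc₁
  haveI hcycW₁ : IsCyclic W₁ :=
    isCyclic_of_surjective (Subgroup.subgroupOfEquivOfLe hV₁L).symm.toMonoidHom
      (Subgroup.subgroupOfEquivOfLe hV₁L).symm.surjective
  haveI := hW.2.2.2.2.1
  haveI : IsCyclic V₂ := isCyclic_of_injective
    (Subgroup.inclusion (le_sup_right : V₂ ≤ V₁ ⊔ V₂)) (Subgroup.inclusion_injective _)
  haveI hcycW₂ : IsCyclic W₂ :=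
    isCyclic_of_surjective (Subgroup.subgroupOfEquivOfLe hV₂L).symm.toMonoidHom
      (Subgroup.subgroupOfEquivOfLe hV₂L).symm.surjective
  have h : PrimeFrob.Setup K W₁ W₂ :=
    { inf := by
        rw [eq_bot_iff]
        rintro x ⟨hx, hx'⟩
        have h1 : (x : G) ∈ K₀ ⊓ V₁ := ⟨hx, hx'⟩
        rw [hinf, Subgroup.mem_bot] at h1
        exact Subgroup.mem_bot.2 (Subtype.ext h1)
      sup := by
        rw [eq_top_iff]
        intro x _
        obtain ⟨a, ha, b, hb, e⟩ := hprod x x.2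
        rw [show x = (⟨a, hle ha⟩ : L) * ⟨b, hV₁L hb⟩ from Subtype.ext e]
        exact Subgroup.mul_mem_sup ha hb
      ne₁ := fun e => hne₁ (by rw [← hmap₁, e]; exact Subgroup.map_bot _)
      cyc₁ := hcycW₁
      hall := by rw [hcard₁]; exact hcop
      ne₂ := fun e => hW.2.1 (by rw [← hmap₂, e]; exact Subgroup.map_bot _)
      cyc₂ := hcycW₂
      le := fun x hx => hV₂K₀ hx
      cent := fun x hx hx1 => by
        ext y
        have he := SetLike.ext_iff.1 (hcent x hx fun e => hx1 (Subtype.ext e)) (y : G)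
        simp only [Subgroup.mem_inf, Subgroup.mem_centralizer_singleton_iff] at he ⊢
        simpa [hK, hW₂, Subgroup.mem_subgroupOf, Subtype.ext_iff] using he
      odd := hodd.of_dvd_nat (Subgroup.card_subgroup_dvd_card _) }
  have hW' : Cfsg.IsSelfNormalizingCyclic (up L W₁) (up L W₂) := by rw [hmap₁, hmap₂]; exact hW
  have hTI : KernelTI L K := by
    intro y hy hy1 x hx hxK
    by_contra hxn
    refine hy1 (Subtype.ext ?_)
    have h' : x⁻¹ ∉ Subgroup.normalizer (K₀ : Set G) := fun hh => hxn (by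
      rw [hN] at hh; simpa using Subgroup.inv_mem _ hh)
    refine hTI₀ x⁻¹ h' (y : G) hy ?_
    rw [inv_inv]; exact hxK
  haveI := hnil₀
  have hnil : Group.IsNilpotent K :=
    Group.nilpotent_of_mulEquiv (Subgroup.subgroupOfEquivOfLe hle).symm
  have hW₂K' : W₂ ≤ ⁅K, K⁆ := fun x hx => by
    have h1 : (x : G) ∈ ⁅K, K⁆.map L.subtype := by
      rw [Subgroup.map_commutator, hK, Subgroup.map_subgroupOf_eq_of_le hle]
      exact hW₂K hx
    exact (Subgroup.mem_map_iff_mem L.subtype_injective).1 h1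
  have hK1 : K ≠ ⊥ := fun e => h.ne₂ (le_bot_iff.1 (e ▸ h.le))
  haveI := hnil
  have hsolv : Group.IsSolvable K := inferInstance
  have hab := derived_lt hnil hK1
  obtain ⟨θ₀, hθ₀, hθ₀ne, -, -⟩ := exists_linear_above K hsolv hab
  obtain ⟨R, hS⟩ := exists_system L h hW' hTI hodd ⟨_, mem_above_bot L K hθ₀ hθ₀ne⟩
  by_cases hp : ∃ p m : ℕ, p.Prime ∧ (⊥ : Subgroup L).relIndex K = p ^ m
  · obtain ⟨p, m, hp, hpm⟩ := hp
    haveI := Fact.mk hp
    rw [Subgroup.relIndex_bot_left] at hpm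
    have hP : IsPGroup p K₀ :=
      (IsPGroup.of_card (n := m) hpm).of_equiv (Subgroup.subgroupOfEquivOfLe hle)
    exact coherent_pgroup L h hW' hTI hodd rfl hle hN hTI₀ hP hnil hW₂K' hS
  · haveI : ((⊥ : Subgroup L).subgroupOf K).Normal := by
      rw [Subgroup.bot_subgroupOf]; infer_instance
    haveI : Group.IsNilpotent (K ⧸ (⊥ : Subgroup L).subgroupOf K) :=
      Group.nilpotent_of_surjective (QuotientGroup.mk' _) (QuotientGroup.mk'_surjective _)
    have hKL : K < ⊤ := lt_top_iff_ne_top.2 fun e => by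
      have h1 := PrimeFrob.index_eq h
      rw [e, Subgroup.index_top] at h1
      have := (Subgroup.one_lt_card_iff_ne_bot W₁).2 h.ne₁
      omega
    exact coherent_reduce K hsolv hS hodd ⊥ bot_le inferInstance ⁅K, K⁆ (sup_bot_eq _).symm hab
      hKL (frob_derived h hnil hW₂K') (Or.inr (Or.inr (Or.inl hp)))

end Cfsg.Agent.OddChar.TypeP
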