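import Cfsg.Agent.OddChar.TypeP.Subcoherent

/-!
# (5.8): the image of a column under a coherent extension
-/

set_option linter.style.haveILetI false
set_option linter.unusedSectionVars false
set_option autoImplicit false

namespace Cfsg.Agent.OddChar.TypeP

open Cfsg Subgroup Cfsg.Agent.Characters Cfsg.Agent.OddChar.Isometry

universe u

section

variable {G : Type u} [Group G] [Fintype G] {W₁ W₂ : Subgroup G}
  {η : (↥(W₁ ⊔ W₂) →* ℂˣ) → G → ℂ}

theorem inner_colSum_eta (hS : CyclicTI.Split W₁ W₂) (hη : IsCyclicTIFamily W₁ W₂ η)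
    {k l : ↥(W₁ ⊔ W₂) →* ℂˣ} (hk : k ∈ rightSet W₁ W₂) (hl : l ∈ rightSet W₁ W₂)
    {i : ↥(W₁ ⊔ W₂) →* ℂˣ} (hi : i ∈ leftSet W₁ W₂) [Decidable (k = l)] :
    classInner (colSum η k) (η (i * l)) = if k = l then 1 else 0 := by
  classical
  haveI := Fintype.ofFinite (leftSet W₁ W₂)
  rw [Tools.colSum_eq_sum, classInner_sum_left,
    Finset.sum_congr rfl fun (b : leftSet W₁ W₂) _ => hη.orthonormal _ _]
  split_ifs with e
  · subst e
    exact (Finset.sum_eq_single (⟨i, hi⟩ : leftSet W₁ W₂)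
      (fun b _ hb => if_neg fun he => hb (Subtype.ext (hS.mul_inj b.2 hi hk hk he).1))
      (fun hn => absurd (Finset.mem_univ _) hn)).trans (if_pos rfl)
  · exact Finset.sum_eq_zero fun b _ => if_neg fun he => e (hS.mul_inj b.2 hi hk hl he).2

end

/-- (5.8). -/
theorem columnImage : ColumnImageStatement.{u} := by
  intro G _ _ hG M W₁ U W₂ _ hM h η hη μ δ hμ S₁ hS₁ hconj τ₁ hτ₁ hagree j hj hj1 hχ₁ hex
  classical
  haveI := Fintype.ofFinite (leftSet W₁ W₂)
  obtain ⟨φ, hφ₁, hφχ, hφχ'⟩ := hex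
  obtain ⟨R, hR, hRirr, hRcol, hRred⟩ := subcoherent hG M W₁ U W₂ hM h η hη μ δ hμ
  have hS := CyclicTI.split_of h.selfNormalizing
  set χ := colSum μ j with hχdef
  have hχ : χ ∈ calS M := hS₁ hχ₁
  have hφ : φ ∈ calS M := hS₁ hφ₁
  have hji := inv_mem_rightSet hj
  have hji1 : j⁻¹ ≠ 1 := fun e => hj1 (MonoidHom.ext fun w => by
    simpa using DFunLike.congr_fun e w)
  have hne : j⁻¹ ≠ j := inv_ne_self hG hj1
  have hδ2 := hμ.sign_mul_self j
  -- membership facts
  have hdiff : ∀ ψ ∈ S₁, ψ - conjFun ψ ∈ zspanOn S₁ {1}ᶜ := fun ψ hψ =>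
    mem_zspanOn_compl_one (Submodule.sub_mem _ (mem_zS hψ) (mem_zS (hconj ψ hψ)))
      (by rw [Pi.sub_apply, Coherence.conj_one hR (hS₁ hψ), sub_self])
  have hpart : ∀ ψ ∈ S₁, τ₁ ψ = Coherence.part (R ψ) (τ₁ ψ) := fun ψ hψ =>
    Coherence.eq_part hR (hS₁ hψ) hτ₁ (mem_zS hψ) (hdiff ψ hψ).1 (hagree _ (hdiff ψ hψ))
  set v := τ₁ χ with hvdef
  have hv : v = Coherence.part (R χ) v := hpart χ hχ₁
  have hvgen : IsGeneralizedCharacter G v := hτ₁.2.2.2 _ (mem_zS hχ₁)
  have hinner0 : ∀ {a : G → ℂ} {ω : ↥(W₁ ⊔ W₂) →* ℂˣ} (s : ℂ) (ω' : ↥(W₁ ⊔ W₂) →* ℂˣ),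
      a = s • η ω' → ω' ≠ ω → classInner a (η ω) = 0 := fun s ω' e hne' => by
    rw [e, classInner_smul_left, hη.orthonormal, if_neg hne', mul_zero]
  -- `R` avoids the column `1`
  have hR1 : ∀ ψ ∈ calS M, ∀ a ∈ R ψ, ∀ i ∈ leftSet W₁ W₂, classInner a (η i) = 0 := by
    intro ψ hψ a ha i hi
    by_cases hirr : IsIrrCharacter M ψ
    · exact hRirr ψ hψ hirr a ha i
    obtain ⟨k, hk, hk1, rfl⟩ := hRred ψ hψ hirr
    have ha' : a ∈ (R (colSum μ k) : Set (G → ℂ)) := ha
    rw [(hRcol k hk hk1).2] at ha'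
    have hki1 : k⁻¹ ≠ 1 := fun e => hk1 (MonoidHom.ext fun w => by
      simpa using DFunLike.congr_fun e w)
    have hx : ∀ i' ∈ leftSet W₁ W₂, ∀ l ∈ rightSet W₁ W₂, l ≠ 1 → i' * l ≠ i := fun i' hi' l hl hl1 e =>
      hl1 (hS.mul_inj hi' hi hl CyclicTI.isRight_one (e.trans (mul_one i).symm)).2
    obtain ⟨i', hi', e | e⟩ := ha'
    · exact hinner0 (δ k) _ e (hx i' hi' k hk hk1)
    · exact hinner0 (-δ k) _ (e.trans (neg_smul _ _).symm) (hx i' hi' _ (inv_mem_rightSet hk) hki1)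
  have hv1 : ∀ i ∈ leftSet W₁ W₂, classInner v (η i) = 0 := fun i hi => by
    rw [hv, Coherence.part, classInner_sum_left]
    exact Finset.sum_eq_zero fun a ha => by
      rw [classInner_smul_left, hR1 χ hχ a ha i hi, mul_zero]
  have hRχ : (R χ : Set (G → ℂ)) =
      {a | ∃ i ∈ leftSet W₁ W₂, a = δ j • η (i * j) ∨ a = -(δ j • η (i * j⁻¹))} := (hRcol j hj hj1).2
  have hmemR : ∀ i ∈ leftSet W₁ W₂,
      δ j • η (i * j) ∈ R χ ∧ -(δ j • η (i * j⁻¹)) ∈ R χ := fun i hi => by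
    constructor <;> rw [← Finset.mem_coe, hRχ]
    · exact ⟨i, hi, Or.inl rfl⟩
    · exact ⟨i, hi, Or.inr rfl⟩
  have hδc : (starRingEnd ℂ) (δ j) = δ j := by rcases hμ.sign j with e | e <;> simp [e]
  have hφorth : ∀ i ∈ leftSet W₁ W₂, classInner (τ₁ φ) (η i) = 0 ∧
      classInner (τ₁ φ) (η (i * j)) = 0 ∧ classInner (τ₁ φ) (η (i * j⁻¹)) = 0 := by
    intro i hi
    rw [hpart φ hφ₁]
    refine ⟨?_, ?_, ?_⟩
    · rw [Coherence.part, classInner_sum_left]
      exact Finset.sum_eq_zero fun a ha => by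
        rw [classInner_smul_left, hR1 φ hφ a ha i hi, mul_zero]
    · have e := Coherence.inner_part_other hR hχ hφ hφχ hφχ' (τ₁ φ) (hmemR i hi).1
      rw [classInner_smul_right, hδc] at e
      exact (mul_eq_zero.1 e).resolve_left fun e' => by simp [e'] at hδ2
    · have e := Coherence.inner_part_other hR hχ hφ hφχ hφχ' (τ₁ φ) (hmemR i hi).2
      rw [← neg_smul, classInner_smul_right, map_neg, hδc, neg_mul, neg_eq_zero] at e
      exact (mul_eq_zero.1 e).resolve_left fun e' => by simp [e'] at hδ2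
  -- the coefficients of `v` are constant on each column
  obtain ⟨d, hd0, hd⟩ := Coherence.degree_pos hR hφ
  obtain ⟨e, -, he⟩ := Coherence.degree_pos hR hχ
  set α : ↥M → ℂ := (d : ℤ) • χ - (e : ℤ) • φ with hαdef
  have hα₁ : α ∈ zspanOn S₁ {1}ᶜ := mem_zspanOn_compl_one
    (Submodule.sub_mem _ (Submodule.smul_mem _ _ (mem_zS hχ₁)) (Submodule.smul_mem _ _ (mem_zS hφ₁)))
    (by simp [hαdef, hd, he, mul_comm])
  have hαS : α ∈ zspanOn (calS M) {1}ᶜ := zspanOn_mono _ hS₁ hα₁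
  have hX : tau M α = (d : ℂ) • v - (e : ℂ) • τ₁ φ := by
    rw [← hagree α hα₁, hαdef, map_sub' (M := zS S₁) hτ₁ (Submodule.smul_mem _ _ (mem_zS hχ₁))
      (Submodule.smul_mem _ _ (mem_zS hφ₁)), hτ₁.2.1 χ (mem_zS hχ₁), hτ₁.2.1 φ (mem_zS hφ₁),
      ← Int.cast_smul_eq_zsmul ℂ (d : ℤ), ← Int.cast_smul_eq_zsmul ℂ (e : ℤ)]
    simp [hvdef]
  have hconst : ∀ i ∈ leftSet W₁ W₂, ∀ k ∈ rightSet W₁ W₂, (k = j ∨ k = j⁻¹) →
      classInner v (η (i * k)) = classInner v (η k) := by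
    intro i hi k hk hkj
    have hφk : ∀ i' ∈ leftSet W₁ W₂, classInner (τ₁ φ) (η (i' * k)) = 0 := fun i' hi' => by
      rcases hkj with rfl | rfl
      · exact (hφorth i' hi').2.1
      · exact (hφorth i' hi').2.2
    have hrel := CyclicTI.relation_of_vanish h.selfNormalizing hη (θ := tau M α)
      (isGen_isClassFunction ((tau_isometry hμ hG hM h).2.2.2 α hαS))
      (fun w k1 k2 => tau_calS_vanish_V hμ hG hM h hαS w k1 k2) (φ := i) (ψ := k) hi hk
    have hφk1 : classInner (τ₁ φ) (η k) = 0 := by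
      have := hφk 1 Tools.one_mem_leftSet
      rwa [show (1 : ↥(W₁ ⊔ W₂) →* ℂˣ) * k = k from one_mul k] at this
    simp only [hX, classInner_sub_left, classInner_smul_left, hv1 i hi, (hφorth i hi).1,
      hv1 1 Tools.one_mem_leftSet, (hφorth 1 Tools.one_mem_leftSet).1, hφk i hi, hφk1] at hrel
    have hd' : (d : ℂ) ≠ 0 := Nat.cast_ne_zero.2 hd0.ne'
    refine mul_left_cancel₀ hd' ?_
    linear_combination hrel
  obtain ⟨b, hb⟩ := classInner_gen_int hvgen (Signed.IsSIrr.isGen (hη.irr_or_neg j))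
  obtain ⟨c, hc⟩ := classInner_gen_int hvgen (Signed.IsSIrr.isGen (hη.irr_or_neg j⁻¹))
  have hbi : ∀ i ∈ leftSet W₁ W₂, classInner v (η (i * j)) = (b : ℂ) := fun i hi => by
    rw [hconst i hi j hj (Or.inl rfl), hb]
  have hci : ∀ i ∈ leftSet W₁ W₂, classInner v (η (i * j⁻¹)) = (c : ℂ) := fun i hi => by
    rw [hconst i hi _ hji (Or.inr rfl), hc]
  have hcard : Fintype.card (leftSet W₁ W₂) = Nat.card W₁ := by
    rw [← Nat.card_eq_fintype_card, Tools.card_leftSet h.selfNormalizing]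
  have hvC : classInner v (colSum η j) = (Nat.card W₁ : ℂ) * b ∧
      classInner v (colSum η j⁻¹) = (Nat.card W₁ : ℂ) * c := by
    constructor <;> rw [Tools.colSum_eq_sum, classInner_sum_right]
    · rw [Finset.sum_congr rfl fun (i : leftSet W₁ W₂) _ => hbi i i.2, Finset.sum_const,
        Finset.card_univ, hcard, nsmul_eq_mul]
    · rw [Finset.sum_congr rfl fun (i : leftSet W₁ W₂) _ => hci i i.2, Finset.sum_const,
        Finset.card_univ, hcard, nsmul_eq_mul]
  -- `v` is a combination of the two columns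
  set w : G → ℂ := (b : ℂ) • colSum η j + (c : ℂ) • colSum η j⁻¹ with hwdef
  have hperp : ∀ a ∈ R χ, classInner (v - w) a = 0 := by
    intro a ha
    have ha' : a ∈ (R χ : Set (G → ℂ)) := ha
    rw [hRχ] at ha'
    obtain ⟨i, hi, rfl | rfl⟩ := ha'
    · rw [classInner_smul_right, classInner_sub_left, hwdef, classInner_add_left,
        classInner_smul_left, classInner_smul_left, inner_colSum_eta hS hη hj hj hi,
        inner_colSum_eta hS hη hji hj hi, if_pos rfl, if_neg hne, hbi i hi]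
      ring
    · rw [← neg_smul, classInner_smul_right, classInner_sub_left, hwdef, classInner_add_left,
        classInner_smul_left, classInner_smul_left, inner_colSum_eta hS hη hj hji hi,
        inner_colSum_eta hS hη hji hji hi, if_pos rfl, if_neg hne.symm, hci i hi]
      ring
  have hvw : v = w := by
    refine sub_eq_zero.1 (classInner_self_eq_zero.1 ?_)
    have h1 : classInner (v - w) v = 0 := by
      conv_lhs => arg 2; rw [hv, Coherence.part]
      rw [classInner_sum_right]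
      exact Finset.sum_eq_zero fun a ha => by rw [classInner_smul_right, hperp a ha, mul_zero]
    have h2 : ∀ k, k = j ∨ k = j⁻¹ → classInner (v - w) (colSum η k) = 0 := by
      intro k hk
      rw [Tools.colSum_eq_sum, classInner_sum_right]
      refine Finset.sum_eq_zero fun i _ => ?_
      rcases hk with rfl | rfl
      · have e := hperp _ (hmemR i i.2).1
        rw [classInner_smul_right, hδc] at e
        exact (mul_eq_zero.1 e).resolve_left fun e' => by simp [e'] at hδ2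
      · have e := hperp _ (hmemR i i.2).2
        rw [← neg_smul, classInner_smul_right, map_neg, hδc, neg_mul, neg_eq_zero] at e
        exact (mul_eq_zero.1 e).resolve_left fun e' => by simp [e'] at hδ2
    rw [classInner_sub_right, h1, hwdef, classInner_add_right, classInner_smul_right,
      classInner_smul_right, ← hwdef, h2 j (Or.inl rfl), h2 _ (Or.inr rfl)]
    simp
  have hq : (Nat.card W₁ : ℂ) ≠ 0 := Nat.cast_ne_zero.2 Nat.card_pos.ne'
  have hnorm : (Nat.card W₁ : ℂ) * ((b : ℂ) * b + (c : ℂ) * c) = Nat.card W₁ := by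
    have e1 : classInner v v = (Nat.card W₁ : ℂ) := by
      rw [hvdef, hτ₁.2.2.1 _ (mem_zS hχ₁) _ (mem_zS hχ₁), hχdef, hμ.inner_col hG h hj hj, if_pos rfl]
    conv_lhs at e1 => arg 2; rw [hvw]
    rw [hwdef, classInner_add_right, classInner_smul_right, classInner_smul_right, hvC.1, hvC.2,
      map_intCast, map_intCast] at e1
    linear_combination e1
  have hdiffeq : (δ j) * ((Nat.card W₁ : ℂ) * b - (Nat.card W₁ : ℂ) * c) = Nat.card W₁ := by
    have e1 : classInner v (tau M (χ - conjFun χ)) = (Nat.card W₁ : ℂ) := by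
      rw [← hagree _ (hdiff χ hχ₁), hvdef, hτ₁.2.2.1 _ (mem_zS hχ₁) _ (hdiff χ hχ₁).1,
        classInner_sub_right, Coherence.conj_orth hR hχ, sub_zero, hχdef,
        hμ.inner_col hG h hj hj, if_pos rfl]
    rw [hχdef, tau_col_sub hμ hG hM h hη hj hj1, ← Finset.smul_sum, Finset.sum_sub_distrib,
      ← Tools.colSum_eq_sum, ← Tools.colSum_eq_sum, classInner_smul_right, hδc, classInner_sub_right,
      hvC.1, hvC.2] at e1
    exact e1
  have h1 : (b : ℂ) * b + (c : ℂ) * c = 1 := mul_left_cancel₀ hq (by rw [hnorm, mul_one])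
  have h2 : δ j * ((b : ℂ) - c) = 1 := mul_left_cancel₀ hq (by rw [mul_one]; linear_combination hdiffeq)
  have h3 : (b : ℂ) * c = 0 := by
    linear_combination (1 / 2 : ℂ) * h1 - (1 / 2 : ℂ) * (δ j * ((b : ℂ) - c) + 1) * h2 +
      (1 / 2 : ℂ) * ((b : ℂ) - c) ^ 2 * hδ2
  show v = δ j • colSum η j ∨ v = -(δ j • colSum η j⁻¹)
  rcases mul_eq_zero.1 h3 with e' | e'
  · refine Or.inr ?_
    have : (c : ℂ) = -δ j := by
      rw [e', zero_sub] at h2
      linear_combination (-δ j) * h2 - (c : ℂ) * hδ2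
    rw [hvw, hwdef, e', zero_smul, zero_add, this, neg_smul]
  · refine Or.inl ?_
    have : (b : ℂ) = δ j := by
      rw [e', sub_zero] at h2
      linear_combination δ j * h2 - (b : ℂ) * hδ2
    rw [hvw, hwdef, e', zero_smul, add_zero, this]

end Cfsg.Agent.OddChar.TypeP
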