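import Cfsg.Agent.OddChar.TypeP.Defs

/-!
# Interfaces between the parts of Peterfalvi sections 4-14

Each `...Statement` is a proposition to be proved by a theorem in a file of this folder.
-/

set_option autoImplicit false

namespace Cfsg.Agent.OddChar.TypeP

open Cfsg Subgroup

universe u

/-- (4.3) transported to `M`. -/
def MuStatement : Prop :=
  ∀ {G : Type u} [Group G] [Fintype G], IsMinSimpleOddOrder G →
    ∀ (M W₁ U W₂ : Subgroup G) [Fintype M], IsCoatom M → IsTypePWith M W₁ U W₂ →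
      ∃ μ δ, MuData M W₁ W₂ μ δ

/-- (4.8): differences inside a row go to differences of `η`. -/
def RowDiffStatement : Prop :=
  ∀ {G : Type u} [Group G] [Fintype G], IsMinSimpleOddOrder G →
    ∀ (M W₁ U W₂ : Subgroup G) [Fintype M], IsCoatom M → IsTypePWith M W₁ U W₂ →
      ∀ η, IsCyclicTIFamily W₁ W₂ η → ∀ μ δ, MuData M W₁ W₂ μ δ →
        ∀ i ∈ leftSet W₁ W₂, ∀ j ∈ rightSet W₁ W₂, ∀ k ∈ rightSet W₁ W₂, j ≠ 1 → k ≠ 1 →
          δ j = δ k → μ j 1 = μ k 1 →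
            tau M (μ (i * j) - μ (i * k)) = δ j • (η (i * j) - η (i * k))

/-- (5.3) for type P: `calS M` is subcoherent, with `R` of the reducible members made of `η`'s. -/
def SubcoherentStatement : Prop :=
  ∀ {G : Type u} [Group G] [Fintype G], IsMinSimpleOddOrder G →
    ∀ (M W₁ U W₂ : Subgroup G) [Fintype M], IsCoatom M → IsTypePWith M W₁ U W₂ →
      ∀ η, IsCyclicTIFamily W₁ W₂ η → ∀ μ δ, MuData M W₁ W₂ μ δ →
        ∃ R : (↥M → ℂ) → Finset (G → ℂ),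
          IsCoherenceSystem (calS M) (tau M) R ∧
          (∀ φ ∈ calS M, IsIrrCharacter ↥M φ → ∀ a ∈ R φ, ∀ ω, classInner a (η ω) = 0) ∧
          (∀ j ∈ rightSet W₁ W₂, j ≠ 1 → colSum μ j ∈ calS M ∧
            (R (colSum μ j) : Set (G → ℂ)) =
              {a | ∃ i ∈ leftSet W₁ W₂, a = δ j • η (i * j) ∨ a = -(δ j • η (i * j⁻¹))}) ∧
          (∀ φ ∈ calS M, ¬ IsIrrCharacter ↥M φ →
            ∃ j ∈ rightSet W₁ W₂, j ≠ 1 ∧ φ = colSum μ j)

/-- (5.8): a coherent extension sends a column sum to a signed column of `η`. -/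
def ColumnImageStatement : Prop :=
  ∀ {G : Type u} [Group G] [Fintype G], IsMinSimpleOddOrder G →
    ∀ (M W₁ U W₂ : Subgroup G) [Fintype M], IsCoatom M → IsTypePWith M W₁ U W₂ →
      ∀ η, IsCyclicTIFamily W₁ W₂ η → ∀ μ δ, MuData M W₁ W₂ μ δ →
        ∀ S₁ : Set (↥M → ℂ), S₁ ⊆ calS M → (∀ φ ∈ S₁, conjFun φ ∈ S₁) →
          ∀ τ₁, IsLinearIsometryOn (zspan S₁) τ₁ →
            (∀ α ∈ zspanOn S₁ {1}ᶜ, τ₁ α = tau M α) →
            ∀ j ∈ rightSet W₁ W₂, j ≠ 1 → colSum μ j ∈ S₁ →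
              (∃ φ ∈ S₁, φ ≠ colSum μ j ∧ φ ≠ conjFun (colSum μ j)) →
              τ₁ (colSum μ j) = δ j • colSum η j ∨ τ₁ (colSum μ j) = -(δ j • colSum η j⁻¹)

/-- (6.8) in the case `L = K ⋊ W₁` with `C_K(x) = W₂ ≤ K'`: Sibley coherence. -/
def SibleyPrimeStatement : Prop :=
  ∀ {G : Type u} [Group G] [Fintype G] (L K W₁ W₂ : Subgroup G) [Fintype L],
    Odd (Nat.card L) → Group.IsNilpotent K → L ≤ normalizer (K : Set G) → IsComplIn K W₁ L →
    (Nat.card W₁).Coprime (W₁.relIndex L) → W₁ ≠ ⊥ → IsCyclic W₁ → W₂ ≤ ⁅K, K⁆ →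
    (∀ x ∈ W₁, x ≠ 1 → K ⊓ centralizer ({x} : Set G) = W₂) →
    IsSelfNormalizingCyclic W₁ W₂ → IsTISubset (K : Set G) → normalizer (K : Set G) = L →
      IsCoherent (inducedIrrAbove (K.subgroupOf L) ⊥) {1}ᶜ (fun α : ↥L → ℂ => indFun L α)

/-- (9.3), (9.4): existence of the chief factor. -/
def ChiefStatement : Prop :=
  ∀ {G : Type u} [Group G] [Finite G], IsMinSimpleOddOrder G →
    ∀ M W₁ U W₂ : Subgroup G, IsCoatom M → IsTypePWith M W₁ U W₂ → U ≠ ⊥ → (Nat.card W₁).Prime →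
      ∃ H₀ C r, ChiefData M W₁ U W₂ H₀ C r

/-- (9.7): the dichotomy. -/
def DichotomyStatement : Prop :=
  ∀ {G : Type u} [Group G] [Finite G], IsMinSimpleOddOrder G →
    ∀ (M W₁ U W₂ H₀ C : Subgroup G) (r : ℕ), IsCoatom M → IsTypePWith M W₁ U W₂ →
      (Nat.card W₁).Prime → ChiefData M W₁ U W₂ H₀ C r →
        GaloisData M W₁ U W₂ H₀ C r ∨ ∃ H₁ C₁ a, SplitData M W₁ U W₂ H₀ C H₁ C₁ r a

/-- (9.11): `S(H₀ C')` is coherent. -/
def CoreCoherenceStatement : Prop :=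
  ∀ {G : Type u} [Group G] [Fintype G], IsMinSimpleOddOrder G →
    ∀ (M W₁ U W₂ H₀ C : Subgroup G) (r : ℕ) [Fintype M], IsCoatom M → IsTypePWith M W₁ U W₂ →
      (Nat.card W₁).Prime → ChiefData M W₁ U W₂ H₀ C r →
        IsCoherent (calSH M (H₀ ⊔ ⁅C, C⁆)) {1}ᶜ (tau M)

/-- (10.8). -/
def NoncoherentStatement : Prop :=
  ∀ {G : Type u} [Group G] [Fintype G], IsMinSimpleOddOrder G →
    ∀ (M : Subgroup G) [Fintype M], IsCoatom M →
      IsOfTypeIII M ∨ IsOfTypeIV M ∨ IsOfTypeV M → ¬ IsCoherent (calS M) {1}ᶜ (tau M)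

/-- (10.10). -/
def NoTypeVStatement : Prop :=
  ∀ {G : Type u} [Group G] [Finite G], IsMinSimpleOddOrder G →
    ∀ M : Subgroup G, IsCoatom M → ¬ IsOfTypeV M

/-- (11.6)-(11.9): structure of a maximal subgroup of type III or IV. -/
def TypeThreeStatement : Prop :=
  ∀ {G : Type u} [Group G] [Finite G], IsMinSimpleOddOrder G →
    ∀ M W₁ U W₂ : Subgroup G, IsCoatom M → IsTypePWith M W₁ U W₂ →
      IsOfTypeIII M ∨ IsOfTypeIV M →
        ¬ IsOfTypeIV M ∧ Nat.card W₂ < Nat.card W₁ ∧ IsCyclic U ∧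
        U ⊓ centralizer ((fittingHallOf M : Subgroup G) : Set G) = ⊥ ∧
        IsElementaryAbelian (Nat.card W₂) (fittingHallOf M) ∧
        Nat.card (fittingHallOf M) = Nat.card W₂ ^ Nat.card W₁

/-- For type III the `η`-part of `τ(μ₀ - ζ)` is the column `i = 0` (notes/ft/endgame.md 3c-3e). -/
def TypeThreeColumnStatement : Prop :=
  ∀ {G : Type u} [Group G] [Fintype G], IsMinSimpleOddOrder G →
    ∀ (M W₁ U W₂ : Subgroup G) [Fintype M], IsCoatom M → IsTypePWith M W₁ U W₂ → IsOfTypeIII M →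
      ∀ η, IsCyclicTIFamily W₁ W₂ η → ∀ μ δ, MuData M W₁ W₂ μ δ →
        ∀ ζ ∈ calS M, IsIrrCharacter ↥M ζ → ζ 1 = (Nat.card W₁ : ℂ) → ∀ ω,
          (ω ∈ rightSet W₁ W₂ → classInner (tau M (colSum μ 1 - ζ)) (η ω) = 1) ∧
          (ω ∉ rightSet W₁ W₂ → classInner (tau M (colSum μ 1 - ζ)) (η ω) = 0)

/-- (8.17): `G` is covered by the sets `Ã₁` and the conjugates of `W - W₁ ∪ W₂`. -/
def CoverStatement : Prop :=
  ∀ {G : Type u} [Group G] [Finite G], IsMinSimpleOddOrder G →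
    ∀ S T W₁ W₂ U V : Subgroup G, IsCoatom S → IsCoatom T → IsTypePWith S W₁ U W₂ →
      IsTypePWith T W₂ V W₁ → S ⊓ T = W₁ ⊔ W₂ → ∀ g : G, g ≠ 1 →
        g ∈ tildeOf S (typeA1 S) ∨ g ∈ tildeOf T (typeA1 T) ∨
        (∃ w ∈ W₁ ⊔ W₂, w ∉ W₁ ∧ w ∉ W₂ ∧ IsConj g w) ∨
        ∃ L : Subgroup G, IsCoatom L ∧ IsOfTypeI L ∧ g ∈ tildeOf L (typeA1 L)

/-- The measure of `Ã`: `|Ã| / |G| = |A| / |M|`. -/
def MeasureStatement : Prop :=
  ∀ {G : Type u} [Group G] [Finite G], IsMinSimpleOddOrder G →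
    ∀ (M : Subgroup G) (A : Set G), IsCoatom M →
      (A = typeA1 M ∨ A = typeA M ∨ A = typeA0 M) →
        (tildeOf M A).ncard * Nat.card M = A.ncard * Nat.card G

/-- Parity of the row sums of `η` at elements of order prime to `|W₁|`. -/
def OddSumStatement : Prop :=
  ∀ {G : Type u} [Group G] [Fintype G] (W₁ W₂ : Subgroup G), IsSelfNormalizingCyclic W₁ W₂ →
    Odd (Nat.card ↥(W₁ ⊔ W₂)) → ∀ η, IsCyclicTIFamily W₁ W₂ η →
      ∀ g : G, (orderOf g).Coprime (Nat.card W₁) →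
        ∃ n : ℤ, Odd n ∧ colSum η 1 g = n

end Cfsg.Agent.OddChar.TypeP
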