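import Cfsg.Agent.S1511
import Cfsg.Agent.OddChar.TypeP.Interfaces

/-!
# The characters `μ i j` of a maximal subgroup of type P
-/

set_option linter.style.haveILetI false
set_option autoImplicit false

namespace Cfsg.Agent.OddChar.TypeP

open Cfsg Subgroup

universe u

variable {G : Type u} [Group G]

instance derivedIn_normal (M : Subgroup G) : (derivedIn M).Normal := by
  refine ⟨fun k hk m => ?_⟩
  rw [derivedIn, mem_subgroupOf] at hk ⊢
  have hle : M ≤ normalizer ((⁅M, M⁆ : Subgroup G) : Set G) := fun x hx => by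
    rw [mem_normalizer_iff]
    intro y
    have key : ∀ z ∈ M, ∀ a ∈ ⁅M, M⁆, z * a * z⁻¹ ∈ ⁅M, M⁆ := fun z hz a ha => by
      have h1 : (⁅M, M⁆).map (MulAut.conj z).toMonoidHom ≤ ⁅M, M⁆ := by
        rw [map_commutator]
        have : M.map (MulAut.conj z).toMonoidHom ≤ M := by
          rintro - ⟨b, hb, rfl⟩
          exact M.mul_mem (M.mul_mem hz hb) (M.inv_mem hz)
        exact commutator_mono this this
      exact h1 ⟨a, ha, rfl⟩
    exact ⟨key x hx y, fun h => by simpa [mul_assoc] using key x⁻¹ (M.inv_mem hx) _ h⟩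
  exact (mem_normalizer_iff.1 (hle m.2) _).1 hk

section

variable {M W₁ U W₂ : Subgroup G}

theorem commutator_le_self (M : Subgroup G) : ⁅M, M⁆ ≤ M :=
  commutator_le.2 fun _ ha _ hb =>
    M.mul_mem (M.mul_mem (M.mul_mem ha hb) (M.inv_mem ha)) (M.inv_mem hb)

theorem W₁_le (h : IsTypePWith M W₁ U W₂) : W₁ ≤ M := h.W₁_compl.2.1

theorem W₂_le_derived (h : IsTypePWith M W₁ U W₂) : W₂ ≤ ⁅M, M⁆ :=
  (h.W₂_le.trans inf_le_right).trans (commutator_le_self _)

theorem W_le (h : IsTypePWith M W₁ U W₂) : W₁ ⊔ W₂ ≤ M :=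
  sup_le (W₁_le h) ((W₂_le_derived h).trans (commutator_le_self M))

theorem cyclic_W₂ (h : IsTypePWith M W₁ U W₂) : IsCyclic W₂ := by
  haveI := h.selfNormalizing.2.2.2.2.1
  exact isCyclic_of_injective (inclusion (le_sup_right : W₂ ≤ W₁ ⊔ W₂)) (inclusion_injective _)

theorem odd_subgroup (hG : IsMinSimpleOddOrder G) (H : Subgroup G) : Odd (Nat.card H) :=
  hG.1.of_dvd_nat (card_subgroup_dvd_card H)

theorem subgroupOf_sup_W (h : IsTypePWith M W₁ U W₂) :
    W₁.subgroupOf M ⊔ W₂.subgroupOf M = (W₁ ⊔ W₂).subgroupOf M :=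
  (subgroupOf_sup (W₁_le h) ((W₂_le_derived h).trans (commutator_le_self M))).symm

/-- The two copies of `W` are isomorphic. -/
noncomputable def wEquiv (h : IsTypePWith M W₁ U W₂) :
    ↥(W₁.subgroupOf M ⊔ W₂.subgroupOf M) ≃* ↥(W₁ ⊔ W₂) :=
  (MulEquiv.subgroupCongr (subgroupOf_sup_W h)).trans (subgroupOfEquivOfLe (W_le h))

theorem wEquiv_coe (h : IsTypePWith M W₁ U W₂) (w : ↥(W₁.subgroupOf M ⊔ W₂.subgroupOf M)) :
    (wEquiv h w : G) = ((w : ↥M) : G) := rfl

theorem setup_of [Fintype M] (hG : IsMinSimpleOddOrder G) (h : IsTypePWith M W₁ U W₂) :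
    PrimeFrob.Setup (derivedIn M) (W₁.subgroupOf M) (W₂.subgroupOf M) := by
  obtain ⟨-, -, hinf, hmul⟩ := h.W₁_compl
  have e₁ := subgroupOfEquivOfLe (W₁_le h)
  have e₂ := subgroupOfEquivOfLe ((W₂_le_derived h).trans (commutator_le_self M))
  refine ⟨?_, ?_, ?_, ?_, ?_, ?_, ?_, ?_, ?_, ?_⟩
  · rw [← Subgroup.map_eq_bot_iff_of_injective _ M.subtype_injective]
    refine le_bot_iff.1 fun x hx => ?_
    obtain ⟨y, ⟨hy1, hy2⟩, rfl⟩ := hx
    rw [← hinf]
    exact ⟨mem_subgroupOf.1 hy1, mem_subgroupOf.1 hy2⟩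
  · refine top_le_iff.1 fun m _ => ?_
    obtain ⟨a, ha, b, hb, e⟩ := hmul m m.2
    have : m = ⟨a, commutator_le_self M ha⟩ * ⟨b, W₁_le h hb⟩ := Subtype.ext e
    rw [this]
    exact mul_mem_sup (mem_subgroupOf.2 ha) (mem_subgroupOf.2 hb)
  · intro e
    exact h.W₁_ne ((eq_bot_iff_forall _).2 fun x hx => by
      have := (eq_bot_iff_forall _).1 e ⟨x, W₁_le h hx⟩ (mem_subgroupOf.2 hx)
      exact congrArg Subtype.val this)
  · exact e₁.isCyclic.2 h.W₁_cyclic
  · rw [Nat.card_congr e₁.toEquiv]; exact h.W₁_hall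
  · intro e
    exact h.selfNormalizing.2.1 ((eq_bot_iff_forall _).2 fun x hx => by
      have := (eq_bot_iff_forall _).1 e ⟨x, (W_le h) (mem_sup_right hx)⟩ (mem_subgroupOf.2 hx)
      exact congrArg Subtype.val this)
  · exact e₂.isCyclic.2 (cyclic_W₂ h)
  · exact fun x hx => mem_subgroupOf.2 (W₂_le_derived h hx)
  · intro x hx hx1
    have := h.W₂_centralizer (x : G) hx fun e => hx1 (Subtype.ext e)
    ext k
    simp only [mem_inf, derivedIn, mem_subgroupOf, ← this, mem_centralizer_singleton_iff]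
    exact and_congr Iff.rfl ⟨fun e => congrArg Subtype.val e, fun e => Subtype.ext e⟩
  · rw [Nat.card_congr (wEquiv h).toEquiv]; exact odd_subgroup hG _

end

/-- (4.3) transported to `M`. -/
theorem mu : MuStatement.{u} := by
  intro G _ _ hG M W₁ U W₂ _ _ h
  classical
  have hs := setup_of hG h
  obtain ⟨μ₀, δ₀, hinj, hirr, hsign, hcong, heq, hvan, hdeg⟩ :=
    Cfsg.Agent.S1511.result (derivedIn M) (W₁.subgroupOf M) (W₂.subgroupOf M) hs.inf hs.sup hs.ne₁
      hs.cyc₁ hs.hall hs.ne₂ hs.cyc₂ hs.le hs.cent hs.odd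
  let tr : (↥(W₁ ⊔ W₂) →* ℂˣ) → (↥(W₁.subgroupOf M ⊔ W₂.subgroupOf M) →* ℂˣ) :=
    fun ω => ω.comp (wEquiv h).toMonoidHom
  have htr : Function.Injective tr := fun a b e => MonoidHom.ext fun w => by
    obtain ⟨v, rfl⟩ := (wEquiv h).surjective w
    exact DFunLike.congr_fun e v
  have hsurj : Function.Surjective tr := fun a =>
    ⟨a.comp (wEquiv h).symm.toMonoidHom, MonoidHom.ext fun v => by simp [tr]⟩
  have hagree : ∀ i ∈ leftSet W₁ W₂, ∀ ω, ∀ w : ↥(W₁.subgroupOf M ⊔ W₂.subgroupOf M),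
      (w : ↥M) ∈ W₂.subgroupOf M → tr (i * ω) w = tr ω w := fun i hi ω w hw => by
    show i (wEquiv h w) * ω (wEquiv h w) = ω (wEquiv h w)
    rw [hi (wEquiv h w) (mem_subgroupOf.1 hw), one_mul]
  have hmem : ∀ w : ↥M, (w : G) ∈ W₁ ⊔ W₂ → w ∈ W₁.subgroupOf M ⊔ W₂.subgroupOf M :=
    fun w hw => by rw [subgroupOf_sup_W h]; exact hw
  have hval : ∀ ω, ∀ w : ↥M, ∀ hw : (w : G) ∈ W₁ ⊔ W₂, (w : G) ∉ W₂ →
      μ₀ (tr ω) w = δ₀ (tr ω) * (ω ⟨w, hw⟩ : ℂ) :=
    fun ω w hw hn => heq (tr ω) ⟨w, hmem w hw⟩ hn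
  have hvan' : ∀ θ : ↥M → ℂ, IsIrrCharacter ↥M θ → (∀ ω, θ ≠ μ₀ (tr ω)) →
      ∀ w : ↥M, (w : G) ∈ W₁ ⊔ W₂ → (w : G) ∉ W₂ → θ w = 0 := fun θ hθ hne w hw hn =>
    hvan θ hθ (fun v => by obtain ⟨ω, rfl⟩ := hsurj v; exact hne ω) ⟨w, hmem w hw⟩ hn
  refine ⟨fun ω => μ₀ (tr ω), fun ω => δ₀ (tr ω),
    { inj := hinj.comp htr
      irr := fun ω => hirr _
      sign := fun ω => hsign _
      sign_col := fun i hi ω => (hcong _ _ (hagree i hi ω)).1
      map_one := ?_
      eq_on := hval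
      vanish := hvan'
      degree := fun ω => ?_
      col_degree := fun i hi ω => ?_ }⟩
  · obtain ⟨a, ha, ha1⟩ := CyclicTI.exists_mem_ne_one h.W₁_ne
    have hdisj : ∀ {y : G}, y ∈ W₁ → y ∈ W₂ → y = 1 := fun {y} h1 h2 => by
      have : y ∈ W₁ ⊓ W₂ := ⟨h1, h2⟩
      rwa [h.selfNormalizing.2.2.1, mem_bot] at this
    have ha2 : a ∉ W₂ := fun e => ha1 (hdisj ha e)
    have h1irr : IsIrrCharacter ↥M (fun _ => (1 : ℂ)) := by
      simpa using Characters.isIrrCharacter_linear (1 : ↥M →* ℂˣ)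
    obtain ⟨ω, hω⟩ : ∃ ω, (fun _ : ↥M => (1 : ℂ)) = μ₀ (tr ω) := by
      by_contra hn
      push Not at hn
      exact one_ne_zero (hvan' _ h1irr hn ⟨a, W₁_le h ha⟩ (mem_sup_left ha) ha2)
    have hv : ∀ w : ↥(W₁ ⊔ W₂), (w : G) ∉ W₂ → δ₀ (tr ω) * (ω w : ℂ) = 1 := fun w hw => by
      have := hval ω ⟨w, W_le h w.2⟩ w.2 hw
      rw [← hω] at this
      exact this.symm
    set a' : ↥(W₁ ⊔ W₂) := ⟨a, mem_sup_left ha⟩
    have haa : (a : G) * a ∉ W₂ := fun e => by
      have h2 := hdisj (W₁.mul_mem ha ha) e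
      have ho : orderOf a ∣ 2 := orderOf_dvd_of_pow_eq_one (by rw [pow_two]; exact h2)
      have hodd : Odd (orderOf a) := hG.1.of_dvd_nat (orderOf_dvd_natCard a)
      rcases (Nat.dvd_prime Nat.prime_two).1 ho with h3 | h3
      · exact ha1 (orderOf_eq_one_iff.1 h3)
      · rw [h3] at hodd; exact absurd hodd (by decide)
    have e1 := hv a' ha2
    have e2 := hv (a' * a') haa
    rw [map_mul, Units.val_mul] at e2
    have hd : δ₀ (tr ω) = 1 := by
      rcases hsign (tr ω) with e | e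
      · exact e
      · rw [e] at e1 e2
        exfalso
        have : (ω a' : ℂ) = -1 := by linear_combination -e1
        rw [this] at e2
        norm_num at e2
    have hω1 : ω = 1 := by
      refine MonoidHom.ext fun w => Units.ext ?_
      simp only [MonoidHom.one_apply, Units.val_one]
      by_cases hw : (w : G) ∈ W₂
      · have h3 : ((w * a' : ↥(W₁ ⊔ W₂)) : G) ∉ W₂ := fun e =>
          ha2 (by simpa [a'] using W₂.mul_mem (W₂.inv_mem hw) e)
        have := hv (w * a') h3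
        rw [hd, one_mul] at e1
        rw [hd, one_mul, map_mul, Units.val_mul, e1, mul_one] at this
        exact this
      · simpa [hd] using hv w hw
    show μ₀ (tr 1) = _
    rw [← hω1, ← hω]
  · obtain ⟨n, hn⟩ := hdeg (tr ω)
    exact ⟨n, by rwa [Nat.card_congr (subgroupOfEquivOfLe (W₁_le h)).toEquiv] at hn⟩
  · have e := congrFun (hcong _ _ (hagree i hi ω)).2 1
    rw [Characters.indFun_one] at e
    simp only [map_one, Units.val_one, sub_self, mul_zero, Pi.smul_apply, Pi.sub_apply,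
      smul_eq_mul] at e
    rcases mul_eq_zero.1 e.symm with h0 | h0
    · rcases hsign (tr (i * ω)) with e' | e' <;> rw [e'] at h0 <;> norm_num at h0
    · exact sub_eq_zero.1 h0

end Cfsg.Agent.OddChar.TypeP
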