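import Cfsg.Agent.OddChar.TypeP.Interfaces
import Cfsg.Agent.OddChar.CyclicTI.Rigid
import Cfsg.Agent.OddChar.CyclicTI.Duals

/-!
# Parity of the row sums of `η`
-/

set_option autoImplicit false

namespace Cfsg.Agent.OddChar.TypeP

open Cfsg Subgroup
open Cfsg.Agent.Characters
open scoped ComplexConjugate

universe u

variable {G : Type u} [Group G] [Fintype G] {W₁ W₂ : Subgroup G}

theorem dual_pow_card (ω : ↥(W₁ ⊔ W₂) →* ℂˣ) : ω ^ Nat.card ↥(W₁ ⊔ W₂) = 1 :=
  MonoidHom.ext fun w => by rw [MonoidHom.pow_apply, ← map_pow, pow_card_eq_one', map_one]; rfl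

/-- The inverse character gives the conjugate value. -/
theorem family_inv (hW : IsSelfNormalizingCyclic W₁ W₂) (hodd : Odd (Nat.card ↥(W₁ ⊔ W₂)))
    {η : (↥(W₁ ⊔ W₂) →* ℂˣ) → G → ℂ} (hη : IsCyclicTIFamily W₁ W₂ η) (ω : ↥(W₁ ⊔ W₂) →* ℂˣ)
    (g : G) : η ω⁻¹ g = conj (η ω g) := by
  have hn : 1 ≤ Nat.card G := Nat.card_pos
  have hk : (Nat.card G - 1).Coprime (Nat.card G) := by
    have := Nat.coprime_self_add_right (m := Nat.card G - 1) (n := 1)
    rw [Nat.sub_add_cancel hn] at this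
    exact this.mpr (Nat.coprime_one_right _)
  have h := congrFun (CyclicTI.family_comp_pow hW hodd hη ω hk) g
  have e1 : g ^ (Nat.card G - 1) = g⁻¹ :=
    eq_inv_of_mul_eq_one_left (by rw [← pow_succ, Nat.sub_add_cancel hn, pow_card_eq_one'])
  have e2 : ω ^ (Nat.card G - 1) = ω⁻¹ := MonoidHom.ext fun w => by
    rw [MonoidHom.pow_apply, MonoidHom.inv_apply]
    refine eq_inv_of_mul_eq_one_left ?_
    obtain ⟨d, hd⟩ := (W₁ ⊔ W₂).card_subgroup_dvd_card
    rw [← pow_succ, Nat.sub_add_cancel hn, hd, pow_mul, ← MonoidHom.pow_apply, dual_pow_card]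
    exact one_pow _
  simp only [e1, e2] at h
  rw [← h]
  rcases hη.irr_or_neg ω with h' | h'
  · exact char_inv (isCharacter_of_isIrr h') g
  · have := char_inv (isCharacter_of_isIrr h') g
    simp only [Pi.neg_apply, map_neg] at this
    exact neg_inj.mp this

theorem pow_card_left (hW : IsSelfNormalizingCyclic W₁ W₂) {i : ↥(W₁ ⊔ W₂) →* ℂˣ}
    (hi : i ∈ leftSet W₁ W₂) : i ^ Nat.card W₁ = 1 := by
  refine MonoidHom.ext fun w => ?_
  obtain ⟨a, b, ha, hb, rfl⟩ := (CyclicTI.split_of hW).exists_mul w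
  have ha' : a ^ Nat.card W₁ = 1 := Subtype.ext (by
    rw [SubmonoidClass.coe_pow]
    exact congrArg Subtype.val (pow_card_eq_one' (x := (⟨(a : G), ha⟩ : W₁))))
  rw [MonoidHom.pow_apply, map_mul, hi b hb, mul_one, ← map_pow, ha', map_one]
  rfl

/-- Parity of the row sum. -/
theorem oddSum : OddSumStatement.{u} := by
  intro G _ _ W₁ W₂ hW hodd η hη g hg
  classical
  haveI : Finite (↥(W₁ ⊔ W₂) →* ℂˣ) := Nat.finite_of_card_ne_zero (by
    rw [CyclicTI.card_dual fun a ha b hb =>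
      congrArg Subtype.val (CyclicTI.comm_of hW ⟨a, ha⟩ ⟨b, hb⟩)]
    exact Nat.card_pos.ne')
  haveI := Fintype.ofFinite (↥(W₁ ⊔ W₂) →* ℂˣ)
  let s := Finset.univ.filter fun i => i ∈ leftSet W₁ W₂
  have hint : ∀ i ∈ leftSet W₁ W₂, ∃ n : ℤ, η i g = n := fun i hi =>
    CyclicTI.family_value_int hW hodd hη i g
      (hg.coprime_dvd_right (orderOf_dvd_of_pow_eq_one (pow_card_left hW hi)))
  choose! n hn using hint
  have hcol : colSum η 1 g = ((∑ i ∈ s, n i : ℤ) : ℂ) := by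
    rw [colSum, finsum_mem_eq_sum_of_inter_support_eq (t := s) _ (by simp [s]), Finset.sum_apply,
      Int.cast_sum]
    exact Finset.sum_congr rfl fun i hi => by have e : i * 1 = i := mul_one i; rw [e, hn i (Finset.mem_filter.mp hi).2]
  refine ⟨_, ?_, hcol⟩
  have h1 : (1 : ↥(W₁ ⊔ W₂) →* ℂˣ) ∈ leftSet W₁ W₂ := fun _ _ => rfl
  have h1s : (1 : ↥(W₁ ⊔ W₂) →* ℂˣ) ∈ s := Finset.mem_filter.mpr ⟨Finset.mem_univ _, h1⟩
  have hinv : ∀ i ∈ leftSet W₁ W₂, i⁻¹ ∈ leftSet W₁ W₂ := fun i hi w hw => by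
    rw [MonoidHom.inv_apply, hi w hw, inv_one]
  have hn1 : n 1 = 1 := by
    have := hn 1 h1
    simp only [hη.map_one] at this
    exact_mod_cast this.symm
  have hninv : ∀ i ∈ leftSet W₁ W₂, n i⁻¹ = n i := fun i hi => by
    have h := family_inv hW hodd hη i g
    rw [hn i hi, hn _ (hinv i hi)] at h
    simpa using h
  have hne : ∀ i : ↥(W₁ ⊔ W₂) →* ℂˣ, i ≠ 1 → i⁻¹ ≠ i := fun i hi e => hi (by
    have h2 : i ^ 2 = 1 := by rw [pow_two]; nth_rewrite 1 [← e]; exact inv_mul_cancel i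
    have h3 := Nat.eq_one_of_dvd_coprimes (Nat.coprime_two_left.mpr hodd)
      (orderOf_dvd_of_pow_eq_one h2) (orderOf_dvd_of_pow_eq_one (dual_pow_card i))
    exact orderOf_eq_one_iff.mp h3)
  rw [← Finset.add_sum_erase s _ h1s, hn1]
  have hz : ∑ i ∈ s.erase 1, ((n i : ℤ) : ZMod 2) = 0 := by
    refine Finset.sum_involution (fun i _ => i⁻¹) ?_ ?_ ?_ ?_
    · intro i hi
      rw [hninv i (Finset.mem_filter.mp (Finset.mem_of_mem_erase hi)).2, CharTwo.add_self_eq_zero]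
    · intro i hi _
      exact hne i (Finset.ne_of_mem_erase hi)
    · intro i hi
      refine Finset.mem_erase.mpr ⟨fun e => Finset.ne_of_mem_erase hi (MonoidHom.ext fun w => by simpa using DFunLike.congr_fun e w),
        Finset.mem_filter.mpr ⟨Finset.mem_univ _,
          hinv i (Finset.mem_filter.mp (Finset.mem_of_mem_erase hi)).2⟩⟩
    · intro i _
      exact inv_inv i
  rw [← Int.cast_sum, ZMod.intCast_zmod_eq_zero_iff_dvd, Nat.cast_two] at hz
  exact odd_one.add_even (even_iff_two_dvd.mpr hz)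

end Cfsg.Agent.OddChar.TypeP
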