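import Cfsg.Agent.OddChar.TypeP.Facts
import Cfsg.Agent.OddChar.TypeP.Tools.Grid
import Cfsg.Agent.OddChar.Dade.Gen
import Cfsg.Agent.OddChar.Dade.Sum
import Cfsg.Agent.S1500

/-!
# (4.8): differences inside a row
-/

set_option linter.style.haveILetI false
set_option linter.unusedSectionVars false
set_option autoImplicit false

namespace Cfsg.Agent.OddChar.TypeP

open Cfsg Subgroup Cfsg.Agent.Characters

universe u

section

variable {G : Type u} [Group G] [Fintype G] {M W₁ U W₂ : Subgroup G} [Fintype M]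

theorem dadeHyp (hG : IsMinSimpleOddOrder G) (hM : IsCoatom M) :
    DadeHypothesis (typeA0 M) M (supportR M) :=
  (OddLocal.DadeSets.main hG hM _ (Or.inr (Or.inr rfl))).2

/-- The map `τ` restricts to the identity off the factors of `W`. -/
theorem tau_apply_W (hG : IsMinSimpleOddOrder G) (hM : IsCoatom M) (h : IsTypePWith M W₁ U W₂)
    {α : M → ℂ} (hα : IsClassFunction M α) (w : ↥(W₁ ⊔ W₂)) (h1 : (w : G) ∉ W₁)
    (h2 : (w : G) ∉ W₂) : tau M α (w : G) = α ⟨w, W_le h w.2⟩ := by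
  have hw : (w : G) ∈ typeA0 M :=
    mem_typeA0_of_conj hG hM h (m := 1) (by simp) (by simpa using h1) (by simpa using h2)
  exact Dade.apply_eq (dadeHyp hG hM) hα hw (one_mem _) (x := 1) (by group)

theorem inner_tau (hG : IsMinSimpleOddOrder G) (hM : IsCoatom M) {α β : M → ℂ}
    (hα : IsClassFunction M α) (hαA : ∀ x : M, (x : G) ∉ typeA0 M → α x = 0)
    (hβ : IsClassFunction M β) (hβA : ∀ x : M, (x : G) ∉ typeA0 M → β x = 0) :
    classInner (tau M α) (tau M β) = classInner α β :=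
  (S1500.result _ M _ (dadeHyp hG hM) α hα hαA).1 β hβ hβA

theorem inner_tau_one (hG : IsMinSimpleOddOrder G) (hM : IsCoatom M) {α : M → ℂ}
    (hα : IsClassFunction M α) (hαA : ∀ x : M, (x : G) ∉ typeA0 M → α x = 0) :
    classInner (tau M α) (fun _ => 1) = classInner α (fun _ => 1) := by
  classical
  refine Dade.inner_eq (dadeHyp hG hM) hα hαA (fun _ _ => rfl) fun a _ => ?_
  rw [Finset.sum_const, nsmul_eq_mul, mul_one, ← Fintype.card_subtype, ← Nat.card_eq_fintype_card,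
    inv_mul_cancel₀ (Nat.cast_ne_zero.2 Nat.card_pos.ne')]

end

/-- (4.8). -/
theorem rowDiff : RowDiffStatement.{u} := by
  intro G _ _ hG M W₁ U W₂ _ hM h η hη μ δ hμ i hi j hj k hk hj1 hk1 hδ hdeg
  classical
  have hS := CyclicTI.split_of h.selfNormalizing
  have hnl : ∀ l ∈ rightSet W₁ W₂, l ≠ 1 → i * l ∉ leftSet W₁ W₂ := fun l hl hl1 hm =>
    hl1 ((hS.mul_inj hi hm hl CyclicTI.isRight_one (mul_one (i * l)).symm).2)
  have hne1 : ∀ l ∈ rightSet W₁ W₂, l ≠ 1 → i * l ≠ 1 := fun l hl hl1 e =>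
    hnl l hl hl1 (e ▸ Tools.one_mem_leftSet)
  by_cases hjk : j = k
  · subst hjk
    funext g
    rw [sub_self, sub_self, smul_zero]
    show dadeIsometry (typeA0 M) M (supportR M) (0 : M → ℂ) g = 0
    simp only [dadeIsometry]
    split_ifs <;> rfl
  have hik : i * j ≠ i * k := fun e => hjk ((hS.mul_inj hi hi hj hk e).2)
  have hdk : δ (i * k) = δ (i * j) := by rw [hμ.sign_col i hi, hμ.sign_col i hi, hδ]
  set α : M → ℂ := μ (i * j) - μ (i * k) with hαdef
  have hgenM : IsGeneralizedCharacter M α := isGen_sub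
    (isGen_of_isCharacter (isCharacter_of_isIrr (hμ.irr _)))
    (isGen_of_isCharacter (isCharacter_of_isIrr (hμ.irr _)))
  have hαc := isGen_isClassFunction hgenM
  have hαW : ∀ w : M, ∀ hw : (w : G) ∈ W₁ ⊔ W₂, (w : G) ∉ W₂ →
      α w = δ (i * j) * (((i * j) ⟨w, hw⟩ : ℂ) - ((i * k) ⟨w, hw⟩ : ℂ)) := fun w hw hn => by
    rw [hαdef, Pi.sub_apply, hμ.eq_on _ w hw hn, hμ.eq_on _ w hw hn, hdk]; ring
  have hαA : ∀ x : M, (x : G) ∉ typeA0 M → α x = 0 := by
    intro x hx
    by_cases hd : (x : G) ∈ ⁅M, M⁆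
    · by_cases hx1 : x = 1
      · rw [hx1, hαdef, Pi.sub_apply, hμ.col_degree i hi, hμ.col_degree i hi, hdeg, sub_self]
      · have hA : (x : G) ∉ typeA M := fun e => hx (Or.inl e)
        rw [hαdef, Pi.sub_apply,
          apply_eq_zero_of_notMem_typeA hG hM h (hμ.irr _)
            (hμ.nontrivial_typeCore h (hnl j hj hj1)) hd hx1 hA,
          apply_eq_zero_of_notMem_typeA hG hM h (hμ.irr _)
            (hμ.nontrivial_typeCore h (hnl k hk hk1)) hd hx1 hA, sub_zero]
    · obtain ⟨m, hm, hm2⟩ := exists_conj_W hG h hd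
      have e : α (m * x * m⁻¹) = α x := hαc x m
      rw [← e, hαW _ hm hm2]
      have hm1 : ((m * x * m⁻¹ : M) : G) ∈ W₁ := by
        by_contra hn
        exact hx (mem_typeA0_of_conj hG hM h (m := m) (x := (x : G)) hm hn hm2)
      rw [MonoidHom.mul_apply, MonoidHom.mul_apply, hj _ hm1, hk _ hm1, sub_self, mul_zero]
  have hA1 : i * j ≠ 1 := hne1 j hj hj1
  have hB1 : i * k ≠ 1 := hne1 k hk hk1
  have hij : δ j = δ (i * j) := (hμ.sign_col i hi j).symm
  obtain ⟨d, hd, hdd⟩ : ∃ d : ℤ, (d = 1 ∨ d = -1) ∧ δ (i * j) = (d : ℂ) := by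
    rcases hμ.sign (i * j) with e | e
    · exact ⟨1, Or.inl rfl, by simp [e]⟩
    · exact ⟨-1, Or.inr rfl, by simp [e]⟩
  rw [hij, hdd]
  refine Tools.eq_of_norm_two hη h.selfNormalizing (odd_subgroup hG _)
    (Dade.isGen (dadeHyp hG hM) hgenM hαA) ?_ hik hd ?_ ?_
  · show (classInner (tau M α) (tau M α)).re ≤ 2
    rw [inner_tau hG hM hαc hαA hαc hαA, hαdef, classInner_sub_left, classInner_sub_right,
      classInner_sub_right, classInner_isIrr_self (hμ.irr _), classInner_isIrr_self (hμ.irr _),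
      classInner_isIrr_ne (hμ.irr _) (hμ.irr _) fun e => hik (hμ.inj e),
      classInner_isIrr_ne (hμ.irr _) (hμ.irr _) fun e => hik (hμ.inj e).symm]
    norm_num
  · intro w h1 h2
    show tau M α (w : G) = _
    rw [tau_apply_W hG hM h hαc w h1 h2, hαW _ w.2 h2, hdd]
  · show classInner (tau M α) (fun _ => 1) = _
    rw [inner_tau_one hG hM hαc hαA, if_neg hA1, if_neg hB1, sub_zero, mul_zero, hαdef, ← hμ.map_one,
      classInner_sub_left, classInner_isIrr_ne (hμ.irr _) (hμ.irr _) fun e => hA1 (hμ.inj e),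
      classInner_isIrr_ne (hμ.irr _) (hμ.irr _) fun e => hB1 (hμ.inj e), sub_zero]

end Cfsg.Agent.OddChar.TypeP
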