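import Cfsg.Agent.OddChar.TypeP.Columns
import Cfsg.Agent.OddChar.TypeP.RowDiff
import Cfsg.Agent.OddChar.TypeP.SibleyPrime.System
import Cfsg.Agent.OddChar.TypeOne.Coherent
import Cfsg.Agent.S1514

/-!
# (5.3) for type P: `calS M` is subcoherent
-/

set_option linter.style.haveILetI false
set_option linter.unusedSectionVars false
set_option autoImplicit false

namespace Cfsg.Agent.OddChar.TypeP

open Cfsg Subgroup Cfsg.Agent.Characters Cfsg.Agent.OddChar.Isometry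

universe u

section

variable {G : Type u} [Group G] [Fintype G] {M W₁ U W₂ : Subgroup G} [Fintype M]
  {μ : (↥(W₁ ⊔ W₂) →* ℂˣ) → ↥M → ℂ} {δ : (↥(W₁ ⊔ W₂) →* ℂˣ) → ℂ}

theorem tau_add (α β : M → ℂ) : tau M (α + β) = tau M α + tau M β :=
  TypeOne.dade_add _ _ _ α β

theorem tau_sub (α β : M → ℂ) : tau M (α - β) = tau M α - tau M β :=
  (AddMonoidHom.mk' (tau M) tau_add).map_sub α β

theorem tau_sum {ι : Type*} (s : Finset ι) (f : ι → M → ℂ) :
    tau M (∑ i ∈ s, f i) = ∑ i ∈ s, tau M (f i) :=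
  map_sum (AddMonoidHom.mk' (tau M) tau_add) f s

theorem calS_subset : calS M ⊆ inducedIrrAbove (derivedIn M) ⊥ := fun _ hφ => hφ.1

theorem calS_vanish_off {α : M → ℂ} (hα : α ∈ zspan (calS M)) {x : M} (hx : (x : G) ∉ ⁅M, M⁆) :
    α x = 0 :=
  SibleyPrime.vanish_off M (derivedIn M) (zspan_mono calS_subset hα)
    fun hd => hx (mem_subgroupOf.1 hd)

theorem calS_isGen {α : M → ℂ} (hα : α ∈ zspan (calS M)) : IsGeneralizedCharacter M α :=
  SibleyPrime.isGen_of_mem M (derivedIn M) (zspan_mono calS_subset hα)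

theorem calS_conj {φ : M → ℂ} (hφ : φ ∈ calS M) : conjFun φ ∈ calS M :=
  ⟨Coherence.above_conj _ _ hφ.1, fun hc => hφ.2 (by
    rw [← Coherence.conjFun_conjFun φ]; exact Coherence.above_conj _ _ hc)⟩

theorem calS_diff_mem {χ : M → ℂ} (hχ : χ ∈ calS M) :
    χ - conjFun χ ∈ zspanOn (calS M) {1}ᶜ :=
  mem_zspanOn_compl_one (Submodule.sub_mem _ (mem_zS hχ) (mem_zS (calS_conj hχ))) (by
    obtain ⟨n, hn⟩ := char_one_nat (SibleyPrime.isCharacter_mem M (derivedIn M) hχ.1)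
    simp [Cfsg.conjFun, hn])

variable (hμ : MuData M W₁ W₂ μ δ) (hG : IsMinSimpleOddOrder G) (hM : IsCoatom M)
  (h : IsTypePWith M W₁ U W₂)
include hμ hG hM h

theorem calS_supp {α : M → ℂ} (hα : α ∈ zspanOn (calS M) {1}ᶜ) {x : M}
    (hx : (x : G) ∉ typeA M) : α x = 0 := by
  by_cases hx1 : x = 1
  · rw [hx1]; exact apply_one_eq_zero hα
  by_cases hd : (x : G) ∈ ⁅M, M⁆
  · refine Submodule.span_induction (p := fun f _ => f x = 0)
      (fun φ hφ => hμ.calS_apply_eq_zero hG h hM hφ hd hx1 hx) rfl ?_ ?_ hα.1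
    · intro a b _ _ ha hb; rw [Pi.add_apply, ha, hb, add_zero]
    · intro c a _ ha; rw [Pi.smul_apply, ha, smul_zero]
  · exact calS_vanish_off hα.1 hd

theorem calS_supp₀ {α : M → ℂ} (hα : α ∈ zspanOn (calS M) {1}ᶜ) (x : M)
    (hx : (x : G) ∉ typeA0 M) : α x = 0 :=
  calS_supp hμ hG hM h hα fun hA => hx (Or.inl hA)

theorem tau_isometry : IsLinearIsometryOn (zspanOn (calS M) {1}ᶜ) (tau M) :=
  ⟨fun a _ b _ => tau_add a b, fun α _ n => TypeOne.dade_zsmul _ _ _ n α,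
    fun α hα β hβ => inner_tau hG hM (isGen_isClassFunction (calS_isGen hα.1))
      (calS_supp₀ hμ hG hM h hα) (isGen_isClassFunction (calS_isGen hβ.1))
      (calS_supp₀ hμ hG hM h hβ),
    fun _ hα => Dade.isGen (dadeHyp hG hM) (calS_isGen hα.1) (calS_supp₀ hμ hG hM h hα)⟩

omit hμ h in
theorem tau_apply_one (α : M → ℂ) : tau M α 1 = 0 := by
  have hD := dadeHyp hG hM
  refine Dade.apply_eq_zero fun a ha x u hu e => hD.one_not_mem ?_
  rw [mul_one, mul_inv_cancel] at e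
  have h1 : u ∈ M ⊓ centralizer ({a} : Set G) := by
    rw [eq_inv_of_mul_eq_one_right e.symm]
    exact inv_mem (mem_inf.2 ⟨hD.subset ha, mem_centralizer_singleton_iff.2 rfl⟩)
  have h2 : u = 1 := mem_bot.1 ((hD.inf_eq_bot a ha).le (mem_inf.2 ⟨hu, h1⟩))
  rw [h2, mul_one] at e
  rwa [← e] at ha

/-- `τ` of a combination of `calS M` vanishing at one vanishes on `W - W₁ ∪ W₂`. -/
theorem tau_calS_vanish_V {α : M → ℂ} (hα : α ∈ zspanOn (calS M) {1}ᶜ) (w : ↥(W₁ ⊔ W₂))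
    (h1 : (w : G) ∉ W₁) (h2 : (w : G) ∉ W₂) : tau M α (w : G) = 0 := by
  rw [tau_apply_W hG hM h (isGen_isClassFunction (calS_isGen hα.1)) w h1 h2]
  exact calS_vanish_off hα.1 fun hd => h2 (mem_W₂_of_mem_derived hG h w.2 hd)

theorem tau_col_sub {η : (↥(W₁ ⊔ W₂) →* ℂˣ) → G → ℂ} (hη : IsCyclicTIFamily W₁ W₂ η)
    [Fintype (leftSet W₁ W₂)] {j : ↥(W₁ ⊔ W₂) →* ℂˣ} (hj : j ∈ rightSet W₁ W₂) (hj1 : j ≠ 1) :
    tau M (colSum μ j - conjFun (colSum μ j)) =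
      ∑ i : leftSet W₁ W₂, δ j • (η ((i : ↥(W₁ ⊔ W₂) →* ℂˣ) * j) -
        η ((i : ↥(W₁ ⊔ W₂) →* ℂˣ) * j⁻¹)) := by
  rw [hμ.conj_col hG h, Tools.colSum_eq_sum, Tools.colSum_eq_sum, ← Finset.sum_sub_distrib, tau_sum]
  refine Finset.sum_congr rfl fun i _ => ?_
  exact rowDiff hG M W₁ U W₂ hM h η hη μ δ hμ _ i.2 j hj j⁻¹ (inv_mem_rightSet hj) hj1
    (fun e => hj1 (MonoidHom.ext fun w => by simpa using DFunLike.congr_fun e w)) (hμ.conj_mu hG h j).2.symm (hμ.degree_inv hG h j).symm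

end

/-- (5.3) for type P. -/
theorem subcoherent : SubcoherentStatement.{u} := by
  intro G _ _ hG M W₁ U W₂ _ hM h η hη μ δ hμ
  classical
  haveI := Fintype.ofFinite (leftSet W₁ W₂)
  have hodd : Odd (Nat.card M) := odd_subgroup hG M
  have hτ := tau_isometry hμ hG hM h
  set S := calS M with hSdef
  set U' := {χ ∈ S | IsIrrCharacter M χ} with hU
  have hUS : U' ⊆ S := fun χ hχ => hχ.1
  have hUc : ∀ χ ∈ U', conjFun χ ∈ U' ∧ conjFun χ ≠ χ := fun χ hχ =>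
    ⟨⟨calS_conj hχ.1, isIrrCharacter_conj hχ.2⟩, SibleyPrime.conj_ne M _ hodd hχ.1.1⟩
  have hWodd := odd_subgroup hG (W₁ ⊔ W₂)
  have h3 : ∀ {V : Subgroup G}, V ≠ ⊥ → 3 ≤ Nat.card V := fun {V} hne => by
    have := (one_lt_card_iff_ne_bot V).2 hne
    obtain ⟨t, ht⟩ := odd_subgroup hG V
    omega
  have hη' : ∀ ω, Signed.IsSIrr (η ω) := hη.irr_or_neg
  obtain ⟨R₀, hR₀⟩ : ∃ R₀ : (↥M → ℂ) → Finset (G → ℂ), ∀ χ ∈ U',
      (∀ a ∈ R₀ χ, IsGeneralizedCharacter G a ∧ ∀ ω, classInner a (η ω) = 0) ∧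
      (∀ a ∈ R₀ χ, ∀ b ∈ R₀ χ, classInner a b = if a = b then 1 else 0) ∧
      tau M (χ - conjFun χ) = ∑ a ∈ R₀ χ, a ∧
      ∀ φ ∈ U', classInner φ χ = 0 → classInner φ (conjFun χ) = 0 →
        ∀ a ∈ R₀ φ, ∀ b ∈ R₀ χ, classInner a b = 0 := by
    by_cases hUne : U'.Nonempty
    swap
    · exact ⟨fun _ => ∅, fun χ hχ => absurd ⟨χ, hχ⟩ hUne⟩
    obtain ⟨R, hR⟩ := S1514.result U' hUne (fun χ hχ => hχ.2) hUc (tau M)
      ⟨fun a ha b hb => hτ.1 a (zspanOn_mono _ hUS ha) b (zspanOn_mono _ hUS hb),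
        fun a ha => hτ.2.1 a (zspanOn_mono _ hUS ha),
        fun a ha b hb => hτ.2.2.1 a (zspanOn_mono _ hUS ha) b (zspanOn_mono _ hUS hb),
        fun a ha => hτ.2.2.2 a (zspanOn_mono _ hUS ha)⟩
      fun a _ => tau_apply_one hG hM a
    refine ⟨R, fun χ hχ => ⟨?_, hR.orthonormal χ hχ, hR.sum_eq χ hχ,
      fun φ hφ => hR.disjoint χ hχ φ hφ⟩⟩
    have hs : ∀ a ∈ R χ, Signed.IsSIrr a := fun a ha =>
      Signed.isSIrr_of_norm_one (hR.virtual χ hχ a ha) (Coherence.normR hR hχ a ha)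
    have h2 := Coherence.card_R hR hχ (n := 1) (by rw [classInner_isIrr_self hχ.2, Nat.cast_one])
    obtain ⟨a, b, hab, hRab⟩ := Finset.card_eq_two.1 h2
    have ha : a ∈ R χ := by rw [hRab]; simp
    have hb : b ∈ R χ := by rw [hRab]; simp
    have hsum := hR.sum_eq χ hχ
    rw [hRab, Finset.sum_pair hab] at hsum
    have hV : ∀ w : ↥(W₁ ⊔ W₂), (w : G) ∉ W₁ → (w : G) ∉ W₂ → (a + b) w = 0 := fun w k1 k2 => by
      rw [← hsum]
      exact tau_calS_vanish_V hμ hG hM h (calS_diff_mem hχ.1) w k1 k2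
    intro c hc
    refine ⟨hR.virtual χ hχ c hc, fun ω => ?_⟩
    rw [hRab, Finset.mem_insert, Finset.mem_singleton] at hc
    rcases hc with rfl | rfl
    · exact SibleyPrime.inner_eta_eq_zero h.selfNormalizing hη (h3 h.W₁_ne)
        (h3 h.selfNormalizing.2.1) (hs _ ha) (hs _ hb) (Coherence.orthR hR hχ _ ha _ hb hab) hV ω
    · exact SibleyPrime.inner_eta_eq_zero h.selfNormalizing hη (h3 h.W₁_ne)
        (h3 h.selfNormalizing.2.1) (hs _ hb) (hs _ ha) (Coherence.orthR hR hχ _ hb _ ha hab.symm)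
        (fun w k1 k2 => by rw [add_comm]; exact hV w k1 k2) ω
  have hrep : ∀ χ : ↥M → ℂ, ∃ j : ↥(W₁ ⊔ W₂) →* ℂˣ,
      χ ∈ S → ¬ IsIrrCharacter M χ → j ∈ rightSet W₁ W₂ ∧ j ≠ 1 ∧ χ = colSum μ j := fun χ => by
    by_cases h' : χ ∈ S ∧ ¬ IsIrrCharacter M χ
    · obtain ⟨j, hj, hj1, e⟩ := hμ.red_eq_col hG h h'.1 h'.2
      exact ⟨j, fun _ _ => ⟨hj, hj1, e⟩⟩
    · exact ⟨1, fun k1 k2 => absurd ⟨k1, k2⟩ h'⟩
  choose jf hjf using hrep
  let P : (↥(W₁ ⊔ W₂) →* ℂˣ) → Finset (G → ℂ) := fun j =>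
    Finset.univ.image (fun i : leftSet W₁ W₂ => δ j • η ((i : ↥(W₁ ⊔ W₂) →* ℂˣ) * j)) ∪
      Finset.univ.image (fun i : leftSet W₁ W₂ => -(δ j • η ((i : ↥(W₁ ⊔ W₂) →* ℂˣ) * j⁻¹)))
  set R : (↥M → ℂ) → Finset (G → ℂ) := fun χ =>
    if IsIrrCharacter M χ then R₀ χ else P (jf χ) with hR
  have hRirr : ∀ χ, IsIrrCharacter M χ → R χ = R₀ χ := fun χ h' => if_pos h'
  have hmem : ∀ j ∈ rightSet W₁ W₂, ∀ a ∈ P j, ∃ i ∈ leftSet W₁ W₂,
      ∃ (k : ↥(W₁ ⊔ W₂) →* ℂˣ) (s : ℂ), (s = 1 ∨ s = -1) ∧ k ∈ rightSet W₁ W₂ ∧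
        (k = j ∧ s = δ j ∨ k = j⁻¹ ∧ s = -δ j) ∧ a = s • η (i * k) := by
    intro j hj a ha
    simp only [P, Finset.mem_union, Finset.mem_image, Finset.mem_univ, true_and] at ha
    rcases ha with ⟨⟨i, hi⟩, rfl⟩ | ⟨⟨i, hi⟩, rfl⟩
    · exact ⟨i, hi, j, _, hμ.sign j, hj, Or.inl ⟨rfl, rfl⟩, rfl⟩
    · refine ⟨i, hi, j⁻¹, _, ?_, inv_mem_rightSet hj, Or.inr ⟨rfl, rfl⟩, (neg_smul _ _).symm⟩
      rcases hμ.sign j with e | e <;> simp [e]
  have hinner : ∀ (s t : ℂ) (ω ω' : ↥(W₁ ⊔ W₂) →* ℂˣ), (t = 1 ∨ t = -1) →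
      classInner (s • η ω) (t • η ω') = if ω = ω' then s * t else 0 := by
    intro s t ω ω' ht
    rw [classInner_smul_left, classInner_smul_right, hη.orthonormal]
    rcases ht with rfl | rfl <;> split_ifs <;> simp
  have hS := CyclicTI.split_of h.selfNormalizing
  have hinj : ∀ (s : ℂ), s ≠ 0 → ∀ ω ω', s • η ω = s • η ω' → ω = ω' := by
    intro s hs ω ω' e
    have e1 := smul_right_injective (G → ℂ) hs e
    by_contra hne
    have h0 := hη.orthonormal ω ω'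
    rw [← e1, hη.orthonormal, if_pos rfl, if_neg hne] at h0
    exact one_ne_zero h0
  refine ⟨R, ?_, ?_, ?_, fun φ hφ hi => hμ.red_eq_col hG h hφ hi⟩
  · refine ⟨?_, fun χ hχ => SibleyPrime.isCharacter_mem M _ hχ.1, fun χ => calS_conj,
      fun χ hχ => SibleyPrime.conj_ne M _ hodd hχ.1, hτ, fun α _ => tau_apply_one hG hM α,
      fun χ hχ φ hφ => SibleyPrime.orthogonal M _ hχ.1 hφ.1, ?_, ?_, ?_, ?_⟩
    · obtain ⟨j, hj, hj1⟩ := exists_right_ne_one h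
      exact ⟨_, hμ.col_mem hG h hj hj1⟩
    · intro χ hχ a ha b hb
      by_cases hi : IsIrrCharacter M χ
      · rw [hRirr χ hi] at ha hb
        exact (hR₀ χ ⟨hχ, hi⟩).2.1 a ha b hb
      obtain ⟨hj, hj1, -⟩ := hjf χ hχ hi
      simp only [hR, if_neg hi] at ha hb
      obtain ⟨i, hi', k, s, hs, hk, hc, rfl⟩ := hmem _ hj a ha
      obtain ⟨i', hi'', k', t, ht, hk', hc', rfl⟩ := hmem _ hj b hb
      rw [hinner _ _ _ _ ht]
      by_cases e : i * k = i' * k'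
      · obtain ⟨rfl, rfl⟩ := hS.mul_inj hi' hi'' hk hk' e
        have hne := inv_ne_self hG hj1
        have hst : s = t := by
          rcases hc with ⟨e1, e2⟩ | ⟨e1, e2⟩ <;> rcases hc' with ⟨e3, e4⟩ | ⟨e3, e4⟩
          · rw [e2, e4]
          · exact absurd (e3.symm.trans e1) hne
          · exact absurd (e1.symm.trans e3) hne
          · rw [e2, e4]
        rw [if_pos rfl, if_pos (by rw [hst]), hst]
        rcases ht with rfl | rfl <;> norm_num
      · rw [if_neg e, if_neg fun e' => ?_]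
        have h0 := congrArg (classInner (s • η (i * k))) e'
        rw [hinner _ _ _ _ hs, hinner _ _ _ _ ht, if_pos rfl, if_neg e] at h0
        rcases hs with rfl | rfl <;> norm_num at h0
    · intro χ hχ a ha
      by_cases hi : IsIrrCharacter M χ
      · rw [hRirr χ hi] at ha
        exact ((hR₀ χ ⟨hχ, hi⟩).1 a ha).1
      simp only [hR, if_neg hi] at ha
      obtain ⟨i, -, k, s, hs, -, -, rfl⟩ := hmem _ (hjf χ hχ hi).1 a ha
      rcases hs with rfl | rfl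
      · rw [one_smul]; exact (hη' _).isGen
      · rw [neg_one_smul]; exact isGen_neg (hη' _).isGen
    · intro χ hχ
      by_cases hi : IsIrrCharacter M χ
      · rw [hRirr χ hi]
        exact (hR₀ χ ⟨hχ, hi⟩).2.2.1
      obtain ⟨hj, hj1, hχe⟩ := hjf χ hχ hi
      have hε0 : δ (jf χ) ≠ 0 := by rcases hμ.sign (jf χ) with e | e <;> simp [e]
      conv_lhs => rw [hχe, tau_col_sub hμ hG hM h hη hj hj1]
      simp only [hR, if_neg hi, P]
      rw [Finset.sum_union, Finset.sum_image, Finset.sum_image, ← Finset.sum_add_distrib]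
      · exact Finset.sum_congr rfl fun i _ => by rw [smul_sub, sub_eq_add_neg]
      · intro x _ y _ e
        exact Subtype.ext (mul_right_cancel (hinj _ hε0 _ _ (neg_inj.1 e)))
      · intro x _ y _ e
        exact Subtype.ext (mul_right_cancel (hinj _ hε0 _ _ e))
      · rw [Finset.disjoint_left]
        intro a ha ha'
        obtain ⟨x, -, rfl⟩ := Finset.mem_image.1 ha
        obtain ⟨y, -, e⟩ := Finset.mem_image.1 ha'
        have hne : ((x : ↥(W₁ ⊔ W₂) →* ℂˣ) * jf χ) ≠ (y : ↥(W₁ ⊔ W₂) →* ℂˣ) * (jf χ)⁻¹ :=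
          fun e' => inv_ne_self hG hj1 (hS.mul_inj x.2 y.2 hj (inv_mem_rightSet hj) e').2.symm
        have h0 := congrArg (classInner (δ (jf χ) • η ((x : ↥(W₁ ⊔ W₂) →* ℂˣ) * jf χ))) e
        rw [← neg_smul, hinner _ _ _ _ (by rcases hμ.sign (jf χ) with s | s <;> simp [s]),
          hinner _ _ _ _ (hμ.sign _), if_neg hne, if_pos rfl, hμ.sign_mul_self] at h0
        exact zero_ne_one h0
    · intro χ hχ φ hφ h1 h2 a ha b hb
      by_cases hiχ : IsIrrCharacter M χ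
      · rw [hRirr χ hiχ] at hb
        by_cases hiφ : IsIrrCharacter M φ
        · rw [hRirr φ hiφ] at ha
          exact (hR₀ χ ⟨hχ, hiχ⟩).2.2.2 φ ⟨hφ, hiφ⟩ h1 h2 a ha b hb
        · simp only [hR, if_neg hiφ] at ha
          obtain ⟨i, -, k, s, -, -, -, rfl⟩ := hmem _ (hjf φ hφ hiφ).1 a ha
          rw [classInner_smul_left,
            Coherence.inner_comm_zero (((hR₀ χ ⟨hχ, hiχ⟩).1 b hb).2 _), mul_zero]
      · simp only [hR, if_neg hiχ] at hb
        obtain ⟨hjc, -, hχe⟩ := hjf χ hχ hiχ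
        obtain ⟨i', hi', k', t, ht, hk', hc', rfl⟩ := hmem _ hjc b hb
        by_cases hiφ : IsIrrCharacter M φ
        · rw [hRirr φ hiφ] at ha
          rw [classInner_smul_right, ((hR₀ φ ⟨hφ, hiφ⟩).1 a ha).2, mul_zero]
        · simp only [hR, if_neg hiφ] at ha
          obtain ⟨hjp, -, hφe⟩ := hjf φ hφ hiφ
          obtain ⟨i, hi, k, s, -, hk, hc, rfl⟩ := hmem _ hjp a ha
          rw [hinner _ _ _ _ ht, if_neg]
          intro e
          have hkk := (hS.mul_inj hi hi' hk hk' e).2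
          have hnorm : classInner φ φ ≠ 0 := SibleyPrime.ne_zero_of_mem M _ hφ.1
          have n1 : jf φ ≠ jf χ := fun e' => hnorm (by
            have hφχ : φ = χ := by rw [hφe, hχe, e']
            conv_lhs => arg 2; rw [hφχ]
            exact h1)
          have n2 : jf φ ≠ (jf χ)⁻¹ := fun e' => hnorm (by
            have hφχ : φ = conjFun χ := by rw [hφe, hχe, hμ.conj_col hG h, e']
            conv_lhs => arg 2; rw [hφχ]
            exact h2)
          rcases hc with ⟨e1, -⟩ | ⟨e1, -⟩ <;> rcases hc' with ⟨e3, -⟩ | ⟨e3, -⟩ <;>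
            rw [e1, e3] at hkk
          · exact n1 hkk
          · exact n2 hkk
          · exact n2 (MonoidHom.ext fun w => by rw [← hkk]; simp)
          · exact n1 (MonoidHom.ext fun w => by simpa using DFunLike.congr_fun hkk w)
  · intro φ hφ hi a ha
    rw [hRirr φ hi] at ha
    exact ((hR₀ φ ⟨hφ, hi⟩).1 a ha).2
  · intro j hj hj1
    have hmemS := hμ.col_mem hG h hj hj1
    have hni := hμ.col_not_irr hG h hj
    refine ⟨hmemS, ?_⟩
    obtain ⟨hj', -, e⟩ := hjf _ hmemS hni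
    simp only [hR, if_neg hni]
    rw [← hμ.col_injOn hG h hj hj' e]
    ext a
    simp only [P, Finset.coe_union, Finset.coe_image, Finset.coe_univ, Set.image_univ,
      Set.mem_union, Set.mem_range, Subtype.exists, exists_prop, Set.mem_ofPred_eq]
    constructor
    · rintro (⟨i, hi, rfl⟩ | ⟨i, hi, rfl⟩)
      · exact ⟨i, hi, Or.inl rfl⟩
      · exact ⟨i, hi, Or.inr rfl⟩
    · rintro ⟨i, hi, rfl | rfl⟩
      · exact Or.inl ⟨i, hi, rfl⟩
      · exact Or.inr ⟨i, hi, rfl⟩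

end Cfsg.Agent.OddChar.TypeP
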