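import Cfsg.Agent.OddChar.TypeP.NoTypeV.Extend
import Cfsg.Agent.OddChar.TypeP.NoTypeV.TI
import Cfsg.Agent.OddLocal.NonNilpotent
import Cfsg.Agent.S1502
import Cfsg.Agent.OddChar.TypeP.Noncoherent.Main
import Cfsg.Agent.S1521
import Cfsg.Agent.OddChar.TypeP.Noncoherent.Size

/-!
# There is no maximal subgroup of type V (Peterfalvi 10.10)
-/

set_option autoImplicit false
set_option linter.unusedSectionVars false
set_option linter.style.haveILetI false

namespace Cfsg.Agent.OddChar.TypeP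

open Cfsg Subgroup
open Cfsg.Agent.Characters

universe u

/-- (10.10), from (10.8). -/
theorem noTypeV_of (hNC : NoncoherentStatement.{u}) : NoTypeVStatement.{u} := by
  intro G _ _ hG M hM hV
  classical
  haveI := Fintype.ofFinite G
  haveI := Fintype.ofFinite M
  refine hNC hG M hM (Or.inr (Or.inr hV)) ?_
  obtain ⟨W₁, U, W₂, hP, hU, hcases⟩ := hV
  have hH : fittingHallOf M = ⁅M, M⁆ := by
    refine le_antisymm hP.U_compl.1 fun x hx => ?_
    obtain ⟨a, ha, b, hb, rfl⟩ := hP.U_compl.2.2.2 x hx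
    rw [hU, mem_bot] at hb
    rwa [hb, mul_one]
  have hcore : typeCore M = ⁅M, M⁆ := by
    rw [typeCore]
    split_ifs
    · rfl
    · exact hH
  have hnilH : Group.IsNilpotent (⁅M, M⁆ : Subgroup G) := by
    rw [← hH]; exact OddLocal.NonNilpotent.isNilpotent_fittingHallOf M
  obtain ⟨η, hη⟩ := S1502.result W₁ W₂ hP.selfNormalizing (odd_subgroup hG _)
  obtain ⟨μ, δ, hμ⟩ := mu hG M W₁ U W₂ hM hP
  obtain ⟨R, hS, hRirr, hcol, -⟩ := subcoherent hG M W₁ U W₂ hM hP η hη μ δ hμ
  by_cases hti : IsTISubset ((⁅M, M⁆ : Subgroup G) : Set G)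
  · exact NoTypeV.coherent_of_ti hG hM hP hcore hS hnilH hti
  set K := derivedIn M with hKdef
  haveI hnilK : Group.IsNilpotent K :=
    Group.nilpotent_of_mulEquiv (subgroupOfEquivOfLe (commutator_le_self M)).symm
  have hsolv : Group.IsSolvable K := inferInstance
  have hKne : K ≠ ⊥ := fun e => hP.selfNormalizing.2.1 (eq_bot_iff.mpr fun x hx => by
    have h : (⟨x, commutator_le_self M (Noncoherent.W₂_le_derived hP hx)⟩ : M) ∈ K :=
      Noncoherent.W₂_le_derived hP hx
    rw [e, mem_bot] at h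
    exact mem_bot.mpr (congrArg Subtype.val h))
  have hKtop : K < ⊤ := lt_top_iff_ne_top.2 fun e => by
    have h := Noncoherent.index_derivedIn hP
    rw [← hKdef, e, index_top] at h
    exact hP.W₁_ne (card_eq_one.1 h.symm)
  haveI : Group.IsSolvable M := OddLocal.Transitivity.isSolvable_of_ne_top hG hM.1
  have hlt : ⁅K, K⁆ < K := Group.IsSolvable.commutator_lt_of_ne_bot hKne
  have hS' := hS
  rw [Noncoherent.calS_eq_above hcore] at hS' ⊢
  haveI : ((⊥ : Subgroup M).subgroupOf K).Normal := by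
    rw [bot_subgroupOf]; infer_instance
  have hnilq : Group.IsNilpotent (↥K ⧸ (⊥ : Subgroup M).subgroupOf K) :=
    Group.nilpotent_of_surjective (QuotientGroup.mk' _) (QuotientGroup.mk'_surjective _)
  have h1521 := S1521.result K hsolv (tau M) R hS' (hG.1.of_dvd_nat (card_subgroup_dvd_card M))
    ⊥ bot_le hnilq ⁅K, K⁆ (sup_bot_eq _).symm hlt hKtop
    fun k hk hk' x hx => Noncoherent.frob_quotient hP hk hk' hx
  -- the remaining case of (6.8)
  by_cases hp : ∃ p m : ℕ, p.Prime ∧ (⊥ : Subgroup M).relIndex K = p ^ m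
  swap
  · exact h1521 (Or.inr (Or.inr (Or.inl hp)))
  obtain ⟨p, m, hp, hpm⟩ := hp
  by_cases hab : ⁅K, K⁆ ≤ ⊥
  · exact h1521 (Or.inr (Or.inr (Or.inr (Or.inl hab))))
  by_cases hdvd : K.index ∣ p - 1
  · exact h1521 (Or.inr (Or.inr (Or.inr (Or.inr ⟨p, m, hp, hpm, hdvd⟩))))
  clear h1521
  rw [hKdef, Noncoherent.index_derivedIn hP] at hdvd
  rw [relIndex_bot_left] at hpm
  have hcardH : Nat.card (fittingHallOf M) = p ^ m := by
    rw [hH, ← hpm, hKdef, Noncoherent.card_derivedIn]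
  have heq : ∀ {r : ℕ}, r.Prime → r ∣ Nat.card (fittingHallOf M) → r = p := fun hr hd =>
    (Nat.prime_dvd_prime_iff_eq hr hp).1 (hr.dvd_of_dvd_pow (hcardH ▸ hd))
  rcases hcases with h | ⟨r, hr, hrd, hq, -⟩ | ⟨r, hr, hrd, hc3, hq, -⟩
  · rw [hH] at h; exact absurd h hti
  · rw [heq hr hrd] at hq
    exact absurd hq hdvd
  rw [heq hr hrd] at hc3 hq
  have htop : pCore p (fittingHallOf M) = ⊤ :=
    top_le_iff.1 (le_sSup ⟨inferInstance, (IsPGroup.of_card hcardH).to_subgroup ⊤⟩)
  rw [htop, card_top] at hc3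
  have hK3 : Nat.card K = p ^ 3 := by rw [hKdef, Noncoherent.card_derivedIn, ← hH, hc3]
  have hne : commutator K ≠ ⊥ := fun e => hab (by
    rw [← map_subtype_commutator, e, Subgroup.map_bot])
  have hK' : Nat.card (commutator K) = p := NoTypeV.card_commutator_of_cube hp hK3 hne
  have hidx : (commutator ↥(derivedIn M)).index = p ^ 2 := by
    have h := (commutator ↥K).card_mul_index
    rw [hK', hK3, show p ^ 3 = p * p ^ 2 by ring] at h
    exact Nat.eq_of_mul_eq_mul_left hp.pos h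
  have hW2 : Nat.card W₂ = p := by
    have h2 : W₂ ≤ M := (Noncoherent.W₂_le_derived hP).trans (commutator_le_self M)
    have hd := card_dvd_of_le (Noncoherent.le_W₂_commutator hP)
    rw [Nat.card_congr (subgroupOfEquivOfLe h2).toEquiv, ← hKdef, ← map_subtype_commutator,
      card_map_of_injective K.subtype_injective, hK'] at hd
    exact ((Nat.dvd_prime hp).1 hd).resolve_left fun e =>
      hP.selfNormalizing.2.1 (card_eq_one.1 e)
  obtain ⟨d, ε, n, hc⟩ := Noncoherent.exists_muConst hG.1 hP (hW2 ▸ hp) hμ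
  have c : Noncoherent.Ctx M W₁ U W₂ η μ δ R d ε n :=
    ⟨hG, hM, hP, hcore, hW2 ▸ hp, hη, hμ, hc, hS, hRirr, fun j hj hj1 => (hcol j hj hj1).1⟩
  have := NoTypeV.coherent c hp hK3 hW2 hidx hq
  rwa [Noncoherent.calS_eq_above hcore] at this

/-- (10.10). -/
theorem noTypeV : NoTypeVStatement.{u} := noTypeV_of Noncoherent.noncoherent

end Cfsg.Agent.OddChar.TypeP
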