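import Cfsg.Agent.OddChar.TypeP.ChiefBasic

/-!
# An abelian section `H/H₀` with operators
-/

set_option autoImplicit false

namespace Cfsg.Agent.OddChar.TypeP

open Cfsg Subgroup

variable {G : Type*} [Group G] [Finite G] {H H₀ S U : Subgroup G}

/-- The centraliser in `U` of `H/H₀` as a subgroup. -/
def secCent (U H H₀ : Subgroup G) (h1 : U ≤ normalizer (H : Set G))
    (h0 : U ≤ normalizer (H₀ : Set G)) : Subgroup G where
  carrier := sectionCentralizer U H H₀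
  one_mem' := ⟨one_mem _, fun h _ => by simp⟩
  mul_mem' := by
    rintro u v ⟨hu, hu'⟩ ⟨hv, hv'⟩
    refine ⟨mul_mem hu hv, fun h hh => ?_⟩
    have e : u * v * h * (u * v)⁻¹ * h⁻¹ =
        (u * (v * h * v⁻¹ * h⁻¹) * u⁻¹) * (u * h * u⁻¹ * h⁻¹) := by group
    rw [e]
    exact mul_mem ((mem_normalizer_iff.mp (h0 hu) _).mp (hv' h hh)) (hu' h hh)
  inv_mem' := by
    rintro u ⟨hu, hu'⟩
    refine ⟨inv_mem hu, fun h hh => ?_⟩
    have hk : u⁻¹ * h * u ∈ H := (mem_normalizer_iff''.mp (h1 hu) h).mp hh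
    have e : u⁻¹ * h * u⁻¹⁻¹ * h⁻¹ =
        (u * (u⁻¹ * h * u) * u⁻¹ * (u⁻¹ * h * u)⁻¹)⁻¹ := by group
    rw [e]
    exact inv_mem (hu' _ hk)

/-- The fixed points of `S` on `H/H₀`, as a subgroup of `H`. -/
def secFix (S H H₀ : Subgroup G) (h0 : H ≤ normalizer (H₀ : Set G)) : Subgroup G where
  carrier := {h | h ∈ H ∧ ∀ u ∈ S, u * h * u⁻¹ * h⁻¹ ∈ H₀}
  one_mem' := ⟨one_mem _, fun u _ => by simp⟩
  mul_mem' := by
    rintro a b ⟨ha, ha'⟩ ⟨hb, hb'⟩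
    refine ⟨mul_mem ha hb, fun u hu => ?_⟩
    have e : u * (a * b) * u⁻¹ * (a * b)⁻¹ =
        (u * a * u⁻¹ * a⁻¹) * (a * (u * b * u⁻¹ * b⁻¹) * a⁻¹) := by group
    rw [e]
    exact mul_mem (ha' u hu) ((mem_normalizer_iff.mp (h0 ha) _).mp (hb' u hu))
  inv_mem' := by
    rintro a ⟨ha, ha'⟩
    refine ⟨inv_mem ha, fun u hu => ?_⟩
    have e : u * a⁻¹ * u⁻¹ * a⁻¹⁻¹ = a⁻¹ * (u * a * u⁻¹ * a⁻¹)⁻¹ * a⁻¹⁻¹ := by group
    rw [e]
    exact (mem_normalizer_iff.mp (h0 (inv_mem ha)) _).mp (inv_mem (ha' u hu))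

theorem mem_secFix {h0 : H ≤ normalizer (H₀ : Set G)} {h : G} :
    h ∈ secFix S H H₀ h0 ↔ h ∈ H ∧ ∀ u ∈ S, u * h * u⁻¹ * h⁻¹ ∈ H₀ :=
  Iff.rfl

theorem le_secFix (h0 : H ≤ normalizer (H₀ : Set G)) (hle : H₀ ≤ H)
    (hS : S ≤ normalizer (H₀ : Set G)) : H₀ ≤ secFix S H H₀ h0 := fun h hh =>
  ⟨hle hh, fun _ hu => mul_mem ((mem_normalizer_iff.mp (hS hu) h).mp hh) (inv_mem hh)⟩

/-- An element normalising `S`, `H` and `H₀` normalises the fixed points. -/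
theorem mem_normalizer_secFix {h0 : H ≤ normalizer (H₀ : Set G)} {x : G}
    (hxS : x ∈ normalizer (S : Set G)) (hxH : x ∈ normalizer (H : Set G))
    (hx0 : x ∈ normalizer (H₀ : Set G)) :
    x ∈ normalizer (secFix S H H₀ h0 : Set G) := by
  refine mem_normalizer_fintype fun h hh => ?_
  obtain ⟨hh, hh'⟩ := (hh : h ∈ secFix S H H₀ h0)
  refine ⟨(mem_normalizer_iff.mp hxH h).mp hh, fun u hu => ?_⟩
  have hu' : x⁻¹ * u * x ∈ S := (mem_normalizer_iff''.mp hxS u).mp hu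
  have e : u * (x * h * x⁻¹) * u⁻¹ * (x * h * x⁻¹)⁻¹ =
      x * ((x⁻¹ * u * x) * h * (x⁻¹ * u * x)⁻¹ * h⁻¹) * x⁻¹ := by group
  rw [e]
  exact (mem_normalizer_iff.mp hx0 _).mp (hh' _ hu')

/-- Subgroups between `H₀` and `H` are normalised by `H` when `H/H₀` is abelian. -/
theorem le_normalizer_between {N : Subgroup G}
    (hab : ∀ a ∈ H, ∀ b ∈ H, a * b * a⁻¹ * b⁻¹ ∈ H₀) (h1 : H₀ ≤ N) (h2 : N ≤ H) :
    H ≤ normalizer (N : Set G) := by
  intro a ha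
  refine mem_normalizer_fintype fun b hb => ?_
  have e : a * b * a⁻¹ = (a * b * a⁻¹ * b⁻¹) * b := by group
  rw [SetLike.mem_coe, e]
  exact mul_mem (h1 (hab a ha b (h2 hb))) hb

theorem card_sup_mul_inf {A B : Subgroup G} (h : B ≤ normalizer (A : Set G)) :
    Nat.card ↥(A ⊔ B) * Nat.card ↥(A ⊓ B) = Nat.card A * Nat.card B := by
  set K := A ⊔ B
  have : (A.subgroupOf K).Normal :=
    normal_subgroupOf_of_le_normalizer (sup_le le_normalizer h)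
  have htop : B.subgroupOf K ⊔ A.subgroupOf K = ⊤ := by
    rw [← subgroupOf_sup le_sup_right le_sup_left, sup_comm B A, subgroupOf_self]
  have h1 : A.relIndex K = A.relIndex B := by
    rw [← relIndex_subgroupOf (H := A) (le_refl K), subgroupOf_self, ← htop,
      relIndex_sup_right, relIndex_subgroupOf (le_sup_right : B ≤ K)]
  have h3 : Nat.card ↥(A ⊓ B) * A.relIndex B = Nat.card B := by
    rw [← inf_relIndex_right A B, card_mul_relIndex inf_le_right]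
  rw [← card_mul_relIndex (le_sup_left : A ≤ K), ← h3, h1]
  ring

end Cfsg.Agent.OddChar.TypeP
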