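import Cfsg.Agent.OddChar.TypeP.Interfaces
import Cfsg.Agent.OddChar.TypeP.Section
import Cfsg.Agent.S1388

/-!
# Peterfalvi (9.3), (9.4): a chief factor not centralised by `U`
-/

set_option autoImplicit false

namespace Cfsg.Agent.OddChar.TypeP

open Cfsg Subgroup
open Cfsg.Agent.OddLocal
open scoped commutatorElement

universe u

variable {G : Type u} [Group G] [Finite G] {M W₁ U W₂ : Subgroup G}

theorem exists_maximal_normal (hP : IsTypePWith M W₁ U W₂) (hU : U ≠ ⊥) :
    ∃ H₀ : Subgroup G, H₀ ≤ fittingHallOf M ∧ H₀ ≠ fittingHallOf M ∧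
      M ≤ normalizer (H₀ : Set G) ∧
      (∀ a ∈ fittingHallOf M, ∀ b ∈ fittingHallOf M, a * b * a⁻¹ * b⁻¹ ∈ H₀) ∧
      fittingHallOf M ⊓ centralizer (U : Set G) ≤ H₀ ∧
      ∀ N : Subgroup G, M ≤ normalizer (N : Set G) → H₀ ≤ N → N ≤ fittingHallOf M →
        N = H₀ ∨ N = fittingHallOf M := by
  set H := fittingHallOf M with hH
  have hnil : Group.IsNilpotent H := NonNilpotent.isNilpotent_fittingHallOf M
  set N₀ := ⁅H, H⁆ ⊔ (H ⊓ centralizer (U : Set G)) with hN₀
  have hN₀H : N₀ ≤ H := sup_le H.commutator_le_self inf_le_left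
  have hne : N₀ ≠ H := by
    intro e
    have h1 : H ⊓ centralizer (U : Set G) = H :=
      Coprime.eq_of_le_of_sup_commutator_eq inf_le_left (by rw [sup_comm]; exact e)
    exact (S1388.result M W₁ U W₂ hP).2 hU (le_centralizer_iff.mp (inf_eq_left.mp h1))
  have hinv : ∀ x, x ∈ normalizer (H : Set G) → x ∈ normalizer (U : Set G) →
      x ∈ normalizer (N₀ : Set G) := by
    intro x hxH hxU
    refine mem_normalizer_fintype fun y hy => ?_
    have hle : N₀ ≤ N₀.comap (MulAut.conj x).toMonoidHom := by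
      refine sup_le (commutator_le.mpr fun a ha b hb => ?_) ?_
      · rw [mem_comap, MulEquiv.coe_toMonoidHom, map_commutatorElement]
        exact mem_sup_left (commutator_mem_commutator ((mem_normalizer_iff.mp hxH a).mp ha)
          ((mem_normalizer_iff.mp hxH b).mp hb))
      · intro a ha
        obtain ⟨ha1, ha2⟩ := mem_inf.mp ha
        refine mem_sup_right (mem_inf.mpr ⟨(mem_normalizer_iff.mp hxH a).mp ha1, ?_⟩)
        refine mem_centralizer_iff.mpr fun v hv => ?_
        have h := mem_centralizer_iff.mp ha2 (x⁻¹ * v * x) ((mem_normalizer_iff''.mp hxU v).mp hv)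
        change v * (x * a * x⁻¹) = x * a * x⁻¹ * v
        calc v * (x * a * x⁻¹) = x * ((x⁻¹ * v * x) * a) * x⁻¹ := by group
          _ = x * (a * (x⁻¹ * v * x)) * x⁻¹ := by rw [h]
          _ = x * a * x⁻¹ * v := by group
    exact mem_comap.mp (hle hy)
  have hab : ∀ a ∈ H, ∀ b ∈ H, a * b * a⁻¹ * b⁻¹ ∈ N₀ := fun a ha b hb =>
    mem_sup_left (commutator_mem_commutator ha hb)
  have hMN₀ : M ≤ normalizer (N₀ : Set G) :=
    M_le_of_parts hP (le_normalizer_between hab le_rfl hN₀H)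
      (fun x hx => hinv x ((M_le_normalizer_H M) (U_le_M hP hx)) (le_normalizer hx))
      (fun x hx => hinv x ((M_le_normalizer_H M) (W₁_le_M hP hx)) (hP.U_normal hx))
  obtain ⟨H₀, hle, hmax⟩ := Finite.exists_le_maximal
    (p := fun N : Subgroup G => M ≤ normalizer (N : Set G) ∧ N ≤ H ∧ N ≠ H) ⟨hMN₀, hN₀H, hne⟩
  refine ⟨H₀, hmax.prop.2.1, hmax.prop.2.2, hmax.prop.1, fun a ha b hb => hle (hab a ha b hb),
    le_sup_right.trans hle, fun N hMN h0N hNH => ?_⟩
  by_cases e : N = H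
  · exact Or.inr e
  · exact Or.inl (le_antisymm (hmax.le_of_ge ⟨hMN, hNH, e⟩ h0N) h0N)

theorem chiefStatement_proof : ChiefStatement.{u} := by
  intro G _ _ hG M W₁ U W₂ hM hP hU hq
  obtain ⟨H₀, hle, hne, hnor, hab, hcU, hmin⟩ := exists_maximal_normal hP hU
  set H := fittingHallOf M with hH
  have hHM : H ≤ M := H_le_M M
  have hH0n : H ≤ normalizer (H₀ : Set G) := hHM.trans hnor
  have : (H₀.subgroupOf H).Normal := normal_subgroupOf_of_le_normalizer hH0n
  let π := QuotientGroup.mk' (H₀.subgroupOf H)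
  have hπ : ∀ a : H, π a = 1 ↔ (a : G) ∈ H₀ := fun a => by
    rw [QuotientGroup.mk'_apply, QuotientGroup.eq_one_iff, mem_subgroupOf]
  have hcomm : ∀ a b : H, Commute (π a) (π b) := fun a b => by
    have h := (hπ (a * b * a⁻¹ * b⁻¹)).mpr (by simpa using hab a a.2 b b.2)
    rw [map_mul, map_mul, map_mul, map_inv, map_inv] at h
    exact commutatorElement_eq_one_iff_commute.mp h
  -- a prime dividing the order of the section
  have hidx : H₀.relIndex H ≠ 1 := fun e => hne (le_antisymm hle (relIndex_eq_one.mp e))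
  obtain ⟨r, hr, hrd⟩ := Nat.exists_prime_and_dvd hidx
  have := Fact.mk hr
  let P : Subgroup G :=
    { carrier := {h | h ∈ H ∧ h ^ r ∈ H₀}
      one_mem' := ⟨one_mem _, by simp⟩
      mul_mem' := by
        rintro a b ⟨ha, ha'⟩ ⟨hb, hb'⟩
        refine ⟨mul_mem ha hb, ?_⟩
        have h : π (⟨a, ha⟩ * ⟨b, hb⟩) ^ r = 1 := by
          rw [map_mul, (hcomm _ _).mul_pow, ← map_pow, ← map_pow, (hπ _).mpr (by simpa using ha'),
            (hπ _).mpr (by simpa using hb'), one_mul]
        rw [← map_pow] at h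
        simpa using (hπ _).mp h
      inv_mem' := by
        rintro a ⟨ha, ha'⟩
        exact ⟨inv_mem ha, by rw [inv_pow]; exact inv_mem ha'⟩ }
  have hP0 : H₀ ≤ P := fun h hh => ⟨hle hh, pow_mem hh r⟩
  have hPH : P ≤ H := fun h hh => hh.1
  have hMP : M ≤ normalizer (P : Set G) := fun x hx => mem_normalizer_fintype fun h hh =>
    ⟨(mem_normalizer_iff.mp (M_le_normalizer_H M hx) h).mp hh.1, by
      rw [conj_pow]; exact (mem_normalizer_iff.mp (hnor hx) _).mp hh.2⟩
  have hPeq : P = H := by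
    refine (hmin P hMP hP0 hPH).resolve_left fun e => ?_
    obtain ⟨x, hx⟩ := exists_prime_orderOf_dvd_card' r (hrd : r ∣ Nat.card (H ⧸ H₀.subgroupOf H))
    obtain ⟨a, rfl⟩ := QuotientGroup.mk'_surjective _ x
    have h1 : (a : G) ∈ P := ⟨a.2, by
      have h := (hπ (a ^ r)).mp (by rw [map_pow, ← hx]; exact pow_orderOf_eq_one _)
      simpa using h⟩
    rw [e] at h1
    have h2 : π a = 1 := (hπ a).mpr h1
    rw [h2, orderOf_one] at hx
    exact hr.one_lt.ne hx
  have hpow : ∀ a ∈ H, a ^ r ∈ H₀ := fun a ha => (hPeq.ge ha).2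
  have hQ : IsPGroup r (H ⧸ H₀.subgroupOf H) := fun x => ⟨1, by
    obtain ⟨a, rfl⟩ := QuotientGroup.mk'_surjective _ x
    rw [pow_one, ← map_pow]
    exact (hπ _).mpr (by simpa using hpow a a.2)⟩
  obtain ⟨n, hn⟩ := IsPGroup.iff_card.mp hQ
  change H₀.relIndex H = r ^ n at hn
  -- the fixed point formula
  have hyp := frobHyp hP
  have hyp0 : FrobeniusFormula.Hyp H₀ U W₁ :=
    hyp.mono hle ((U_le_M hP).trans hnor) ((W₁_le_M hP).trans hnor)
  have f1 := FrobeniusFormula.formula hyp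
  have f0 := FrobeniusFormula.formula hyp0
  unfold FrobeniusFormula.Formula at f1 f0
  rw [← hH, H_inf_centralizer_W₁ hP] at f1
  have e1 : H₀ ⊓ centralizer (U : Set G) = H ⊓ centralizer (U : Set G) :=
    le_antisymm (inf_le_inf_right _ hle) (le_inf hcU inf_le_right)
  have e2 : H₀ ⊓ centralizer ((U ⊔ W₁ : Subgroup G) : Set G) =
      H ⊓ centralizer ((U ⊔ W₁ : Subgroup G) : Set G) := by
    refine le_antisymm (inf_le_inf_right _ hle) (le_inf ?_ inf_le_right)
    exact (inf_le_inf_left _ (centralizer_le (show (U : Set G) ⊆ ((U ⊔ W₁ : Subgroup G) : Set G)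
      from le_sup_left (a := U)))).trans hcU
  have e3 : H₀ ⊓ centralizer (W₁ : Set G) = H₀ ⊓ W₂ := by
    rw [← H_inf_centralizer_W₁ hP, ← inf_assoc, inf_eq_left.mpr hle]
  rw [e1, e2, e3] at f0
  have e4 : Nat.card W₂ = Nat.card ↥(H₀ ⊓ W₂) * H₀.relIndex W₂ := by
    rw [← inf_relIndex_right H₀ W₂, card_mul_relIndex inf_le_right]
  set q := Nat.card W₁
  set k := H₀.relIndex W₂ with hk
  have hcard : Nat.card H = Nat.card H₀ * k ^ q := by
    rw [e4, mul_pow, mul_assoc, mul_comm (k ^ q), ← mul_assoc, ← f0] at f1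
    exact Nat.eq_of_mul_eq_mul_left (pow_pos Nat.card_pos q) (by rw [f1, mul_assoc])
  have hkr : k ∣ r := by
    have := W₂_cyclic hP
    have : (H₀.subgroupOf W₂).Normal :=
      normal_subgroupOf_of_le_normalizer ((W₂_le_H hP).trans hH0n)
    have : IsCyclic (W₂ ⧸ H₀.subgroupOf W₂) :=
      isCyclic_of_surjective (QuotientGroup.mk' (H₀.subgroupOf W₂)) (QuotientGroup.mk'_surjective _)
    change Nat.card (W₂ ⧸ H₀.subgroupOf W₂) ∣ r
    rw [← IsCyclic.exponent_eq_card]
    refine Monoid.exponent_dvd_of_forall_pow_eq_one fun x => ?_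
    obtain ⟨a, rfl⟩ := QuotientGroup.mk'_surjective _ x
    rw [← map_pow, QuotientGroup.mk'_apply, QuotientGroup.eq_one_iff, mem_subgroupOf]
    simpa using hpow a (W₂_le_H hP a.2)
  have hk1 : k = r := by
    refine (hr.eq_one_or_self_of_dvd k hkr).resolve_left fun e => hne ?_
    rw [e, one_pow, mul_one] at hcard
    exact eq_of_le_of_card_ge hle hcard.le
  rw [hk1] at hcard
  have hUH : U ≤ normalizer (H : Set G) := (U_le_M hP).trans (M_le_normalizer_H M)
  have hU0 : U ≤ normalizer (H₀ : Set G) := (U_le_M hP).trans hnor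
  refine ⟨H₀, secCent U H H₀ hUH hU0, r,
    { prime := hr
      le := hle
      normal := hnor
      abelian := hab
      pow := hpow
      card := hcard
      card_W₂ := hk1
      minimal := hmin
      cent := rfl
      cent_ne := ?_
      derived_le := ?_
      normal_cent := ?_ }⟩
  · intro e
    refine hne (le_antisymm hle fun h hh => ?_)
    obtain ⟨c, hc, hhc⟩ := Coprime.exists_fixed_mod (A := U) (coprime_H_U hP).symm
      (Or.inr hyp.solv) hle hH0n hU0 hh (fun u hu => ((e.ge hu).2 h hh))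
    have hc0 : c ∈ H₀ := hcU hc
    have := mul_mem hc0 (inv_mem hhc)
    rwa [mul_inv_rev, inv_inv, mul_inv_cancel_left] at this
  · intro c hc
    refine ⟨U.commutator_le_self hc, fun h hh => ?_⟩
    have h2 := mem_centralizer_iff.mp ((S1388.result M W₁ U W₂ hP).1 hc) h hh
    rw [← h2, mul_inv_cancel_right, mul_inv_cancel]
    exact one_mem _
  · refine sup_le (fun x hx => ?_) fun x hx => ?_
    all_goals refine mem_normalizer_fintype fun v hv => ?_
    all_goals obtain ⟨hv, hv'⟩ := (hv : v ∈ sectionCentralizer U H H₀)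
    · have hxH := hUH hx
      refine ⟨mul_mem (mul_mem hx hv) (inv_mem hx), fun h hh => ?_⟩
      have e : x * v * x⁻¹ * h * (x * v * x⁻¹)⁻¹ * h⁻¹ =
          x * (v * (x⁻¹ * h * x) * v⁻¹ * (x⁻¹ * h * x)⁻¹) * x⁻¹ := by group
      rw [e]
      exact (mem_normalizer_iff.mp (hU0 hx) _).mp (hv' _ ((mem_normalizer_iff''.mp hxH h).mp hh))
    · have hxH := M_le_normalizer_H M (W₁_le_M hP hx)
      refine ⟨(mem_normalizer_iff.mp (hP.U_normal hx) v).mp hv, fun h hh => ?_⟩
      have e : x * v * x⁻¹ * h * (x * v * x⁻¹)⁻¹ * h⁻¹ =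
          x * (v * (x⁻¹ * h * x) * v⁻¹ * (x⁻¹ * h * x)⁻¹) * x⁻¹ := by group
      rw [e]
      exact (mem_normalizer_iff.mp (hnor (W₁_le_M hP hx)) _).mp
        (hv' _ ((mem_normalizer_iff''.mp hxH h).mp hh))

end Cfsg.Agent.OddChar.TypeP
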