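import Cfsg.Agent.OddChar.TypeP.Facts
import Cfsg.Agent.OddChar.TypeP.Tools.Grid
import Cfsg.Agent.OddChar.PrimeFrobMain
import Cfsg.Agent.OddChar.Coherence.Above
import Cfsg.Agent.OddChar.Coherence.System
import Cfsg.Agent.OddChar.Constituent
import Cfsg.Agent.OddChar.TypeP.SibleyPrime.Basic

/-!
# The columns `μ_j` and the members of `calS M`
-/

set_option linter.style.haveILetI false
set_option linter.unusedSectionVars false
set_option autoImplicit false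

namespace Cfsg.Agent.OddChar.TypeP

open Cfsg Subgroup Cfsg.Agent.Characters
open scoped ComplexConjugate

universe u

variable {G : Type u} [Group G] [Fintype G] {M W₁ U W₂ : Subgroup G}

theorem inv_mem_leftSet {i : ↥(W₁ ⊔ W₂) →* ℂˣ} (hi : i ∈ leftSet W₁ W₂) :
    i⁻¹ ∈ leftSet W₁ W₂ := fun w hw => by simp [hi w hw]

theorem inv_mem_rightSet {j : ↥(W₁ ⊔ W₂) →* ℂˣ} (hj : j ∈ rightSet W₁ W₂) :
    j⁻¹ ∈ rightSet W₁ W₂ := fun w hw => by simp [hj w hw]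

theorem inv_ne_self (hG : IsMinSimpleOddOrder G) {j : ↥(W₁ ⊔ W₂) →* ℂˣ} (hj : j ≠ 1) :
    j⁻¹ ≠ j := fun e => hj <| MonoidHom.ext fun w => by
  have h2 : j w * j w = 1 := by
    have := DFunLike.congr_fun e w
    simp only [MonoidHom.inv_apply] at this
    conv_lhs => arg 1; rw [← this]
    exact inv_mul_cancel _
  obtain ⟨k, hk⟩ : Odd (orderOf (j w)) :=
    (odd_subgroup hG (W₁ ⊔ W₂)).of_dvd_nat
      ((orderOf_map_dvd j w).trans (orderOf_dvd_natCard w))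
  have ho : orderOf (j w) ∣ 2 := orderOf_dvd_of_pow_eq_one (by rw [pow_two]; exact h2)
  rw [MonoidHom.one_apply, ← orderOf_eq_one_iff]
  rcases (Nat.dvd_prime Nat.prime_two).1 ho with h3 | h3 <;> omega

theorem disjoint_W (h : IsTypePWith M W₁ U W₂) {y : G} (h1 : y ∈ W₁) (h2 : y ∈ W₂) : y = 1 := by
  have : y ∈ W₁ ⊓ W₂ := ⟨h1, h2⟩
  rwa [h.selfNormalizing.2.2.1, mem_bot] at this

/-- A linear character of `W` and a sign are determined by their values off `W₂`. -/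
theorem eq_of_eqOn_W (hG : IsMinSimpleOddOrder G) (h : IsTypePWith M W₁ U W₂)
    {ω ω' : ↥(W₁ ⊔ W₂) →* ℂˣ} {s s' : ℂ} (hs : s = 1 ∨ s = -1) (hs' : s' = 1 ∨ s' = -1)
    (he : ∀ w : ↥(W₁ ⊔ W₂), (w : G) ∉ W₂ → s * (ω w : ℂ) = s' * (ω' w : ℂ)) :
    ω = ω' ∧ s = s' := by
  obtain ⟨a, ha, ha1⟩ := CyclicTI.exists_mem_ne_one h.W₁_ne
  have ha2 : a ∉ W₂ := fun e => ha1 (disjoint_W h ha e)
  have haa : a * a ∉ W₂ := fun e => by
    have h2 := disjoint_W h (W₁.mul_mem ha ha) e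
    have ho : orderOf a ∣ 2 := orderOf_dvd_of_pow_eq_one (by rw [pow_two]; exact h2)
    obtain ⟨k, hk⟩ : Odd (orderOf a) := hG.1.of_dvd_nat (orderOf_dvd_natCard a)
    rcases (Nat.dvd_prime Nat.prime_two).1 ho with h3 | h3
    · exact ha1 (orderOf_eq_one_iff.1 h3)
    · omega
  set a' : ↥(W₁ ⊔ W₂) := ⟨a, mem_sup_left ha⟩ with ha'
  have e1 := he a' ha2
  have e2 := he (a' * a') haa
  rw [map_mul, map_mul, Units.val_mul, Units.val_mul] at e2
  have hne : (ω' a' : ℂ) ≠ 0 := Units.ne_zero _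
  have hs2 : s * s = 1 := by rcases hs with e | e <;> rw [e] <;> norm_num
  have hs2' : s' * s' = 1 := by rcases hs' with e | e <;> rw [e] <;> norm_num
  have hω : (ω a' : ℂ) = s * s' * ω' a' := by
    linear_combination s * e1 - (ω a' : ℂ) * hs2
  have hss : s = s' := by
    rw [hω] at e2
    have h3 : (s * s' ^ 2 * s ^ 2 - s') * ((ω' a' : ℂ) * ω' a') = 0 := by
      linear_combination e2
    rcases mul_eq_zero.1 h3 with h4 | h4
    · have : s * s' ^ 2 * s ^ 2 = s := by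
        rw [pow_two, pow_two, hs2', hs2, mul_one, mul_one]
      linear_combination h4 - this
    · exact absurd h4 (mul_ne_zero hne hne)
  subst hss
  refine ⟨MonoidHom.ext fun w => Units.ext ?_, rfl⟩
  have hs0 : s ≠ 0 := fun e => by rw [e, zero_mul] at hs2; exact zero_ne_one hs2
  by_cases hw : (w : G) ∈ W₂
  · have h3 : ((w * a' : ↥(W₁ ⊔ W₂)) : G) ∉ W₂ := fun e =>
      ha2 (by simpa [ha'] using W₂.mul_mem (W₂.inv_mem hw) e)
    have e3 := mul_left_cancel₀ hs0 (he (w * a') h3)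
    rw [map_mul, map_mul, Units.val_mul, Units.val_mul, mul_left_cancel₀ hs0 e1] at e3
    exact mul_right_cancel₀ hne e3
  · exact mul_left_cancel₀ hs0 (he w hw)

theorem exists_right_ne_one (h : IsTypePWith M W₁ U W₂) :
    ∃ j ∈ rightSet W₁ W₂, j ≠ 1 := by
  haveI := Fintype.ofFinite (rightSet W₁ W₂)
  obtain ⟨j, hj⟩ := Fintype.exists_ne_of_one_lt_card (by
    rw [← Nat.card_eq_fintype_card, Tools.card_rightSet h.selfNormalizing]
    exact (one_lt_card_iff_ne_bot W₂).2 h.selfNormalizing.2.1)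
      (⟨1, Tools.one_mem_rightSet⟩ : rightSet W₁ W₂)
  exact ⟨j, j.2, fun e => hj (Subtype.ext e)⟩

theorem colSum_apply' [Fintype (leftSet W₁ W₂)] {X : Type*}
    (f : (↥(W₁ ⊔ W₂) →* ℂˣ) → X → ℂ) (j : ↥(W₁ ⊔ W₂) →* ℂˣ) (x : X) :
    colSum f j x = ∑ i : leftSet W₁ W₂, f ((i : ↥(W₁ ⊔ W₂) →* ℂˣ) * j) x := by
  rw [Tools.colSum_eq_sum, Finset.sum_apply]

variable [Fintype M] {μ : (↥(W₁ ⊔ W₂) →* ℂˣ) → ↥M → ℂ} {δ : (↥(W₁ ⊔ W₂) →* ℂˣ) → ℂ}

namespace MuData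

variable (hμ : MuData M W₁ W₂ μ δ) (hG : IsMinSimpleOddOrder G) (h : IsTypePWith M W₁ U W₂)
include hμ hG h

/-- An irreducible character with the values of `μ ω` on `W - W₂` is `μ ω`. -/
theorem eq_mu {θ : M → ℂ} (hθ : IsIrrCharacter M θ) {ω : ↥(W₁ ⊔ W₂) →* ℂˣ} {s : ℂ}
    (hs : s = 1 ∨ s = -1)
    (hv : ∀ w : ↥(W₁ ⊔ W₂), (w : G) ∉ W₂ → θ ⟨w, W_le h w.2⟩ = s * (ω w : ℂ)) :
    θ = μ ω ∧ δ ω = s := by
  obtain ⟨a, ha, ha1⟩ := CyclicTI.exists_mem_ne_one h.W₁_ne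
  have ha2 : a ∉ W₂ := fun e => ha1 (disjoint_W h ha e)
  obtain ⟨ω', rfl⟩ : ∃ ω', θ = μ ω' := by
    by_contra hn
    push Not at hn
    have h0 := hμ.vanish θ hθ hn ⟨a, W₁_le h ha⟩ (mem_sup_left ha) ha2
    rw [hv ⟨a, mem_sup_left ha⟩ ha2] at h0
    rcases hs with e | e <;> simp [e] at h0
  obtain ⟨rfl, e⟩ := eq_of_eqOn_W hG h (hμ.sign ω') hs fun w hw => by
    rw [← hμ.eq_on ω' ⟨w, W_le h w.2⟩ w.2 hw]; exact hv w hw
  exact ⟨rfl, e⟩

theorem conj_mu (ω : ↥(W₁ ⊔ W₂) →* ℂˣ) : conjFun (μ ω) = μ ω⁻¹ ∧ δ ω⁻¹ = δ ω := by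
  refine hμ.eq_mu hG h (isIrrCharacter_conj (hμ.irr ω)) (hμ.sign ω) fun w hw => ?_
  show conj (μ ω ⟨w, W_le h w.2⟩) = _
  rw [hμ.eq_on ω ⟨(w : G), W_le h w.2⟩ w.2 hw, map_mul, MonoidHom.inv_apply, Units.val_inv_eq_inv_val,
    Complex.inv_def, Complex.normSq_eq_norm_sq, linear_norm_eq_one]
  rcases hμ.sign ω with e | e <;> simp [e]

theorem degree_inv (ω : ↥(W₁ ⊔ W₂) →* ℂˣ) : μ ω⁻¹ 1 = μ ω 1 := by
  rw [← (hμ.conj_mu hG h ω).1]
  obtain ⟨n, -, e⟩ := irr_one_pos (hμ.irr ω)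
  simp [Cfsg.conjFun, e]

/-- A column is constant on `M'`. -/
theorem apply_derived {i : ↥(W₁ ⊔ W₂) →* ℂˣ} (hi : i ∈ leftSet W₁ W₂)
    (ω : ↥(W₁ ⊔ W₂) →* ℂˣ) {x : M} (hx : (x : G) ∈ ⁅M, M⁆) : μ (i * ω) x = μ ω x := by
  have hs := setup_of hG h
  set φ : ↥(W₁.subgroupOf M ⊔ W₂.subgroupOf M) →* ℂˣ := i.comp (wEquiv h).toMonoidHom with hφdef
  have hφ : CyclicTI.IsLeft φ := fun w hw => hi (wEquiv h w) (mem_subgroupOf.1 hw)
  obtain ⟨e, -⟩ := hμ.eq_mu hG h (θ := fun g => (PrimeFrob.lam hs φ g : ℂ) * μ ω g) (ω := i * ω)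
    (isIrrCharacter_mul_linear (hμ.irr ω) _) (hμ.sign ω) fun w hw => by
      have hm : (⟨w, W_le h w.2⟩ : M) ∈ W₁.subgroupOf M ⊔ W₂.subgroupOf M := by
        rw [subgroupOf_sup_W h]; exact w.2
      have hl := PrimeFrob.lam_apply hs hφ ⟨_, hm⟩
      have hl' : φ ⟨_, hm⟩ = i w := rfl
      rw [hl'] at hl
      simp only [hl, hμ.eq_on ω ⟨(w : G), W_le h w.2⟩ w.2 hw, MonoidHom.mul_apply, Units.val_mul]
      ring
  rw [← e]
  simp [PrimeFrob.lam_of_mem hs (k := x) (mem_subgroupOf.2 hx)]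

theorem col_isClassFunction (j : ↥(W₁ ⊔ W₂) →* ℂˣ) : IsClassFunction M (colSum μ j) := by
  haveI := Fintype.ofFinite (leftSet W₁ W₂)
  intro g x
  rw [colSum_apply', colSum_apply']
  exact Finset.sum_congr rfl fun i _ => hμ.classFun _ g x

theorem col_apply_derived (j : ↥(W₁ ⊔ W₂) →* ℂˣ) {x : M} (hx : (x : G) ∈ ⁅M, M⁆) :
    colSum μ j x = (Nat.card W₁ : ℂ) * μ j x := by
  haveI := Fintype.ofFinite (leftSet W₁ W₂)
  rw [colSum_apply', Finset.sum_congr rfl fun i _ => hμ.apply_derived hG h i.2 j hx, Finset.sum_const,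
    Finset.card_univ, ← Nat.card_eq_fintype_card, Tools.card_leftSet h.selfNormalizing, nsmul_eq_mul]

theorem col_apply_notMem (j : ↥(W₁ ⊔ W₂) →* ℂˣ) {x : M} (hx : (x : G) ∉ ⁅M, M⁆) :
    colSum μ j x = 0 := by
  classical
  haveI := Fintype.ofFinite (leftSet W₁ W₂)
  haveI := Fintype.ofFinite (↥(W₁ ⊔ W₂) →* ℂˣ)
  obtain ⟨m, hm, hm2⟩ := exists_conj_W hG h hx
  rw [← hμ.col_isClassFunction hG h j x m, colSum_apply']
  set w : ↥(W₁ ⊔ W₂) := ⟨_, hm⟩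
  rw [Finset.sum_congr rfl (g := fun i : leftSet W₁ W₂ => δ j * (j w : ℂ) *
    ((i : ↥(W₁ ⊔ W₂) →* ℂˣ) w : ℂ)) fun i _ => by
      rw [hμ.eq_on _ _ hm hm2, hμ.sign_col _ i.2, MonoidHom.mul_apply, Units.val_mul]; ring,
    ← Finset.mul_sum]
  refine mul_eq_zero_of_right _ (Eq.trans ?_ (CyclicTI.sum_left_eq_zero
    (CyclicTI.split_of h.selfNormalizing)
    (CyclicTI.comm_of_le (CyclicTI.comm_of h.selfNormalizing) le_sup_left) (w := w) hm2))
  exact (Finset.sum_subtype _ (fun φ => by simp [CyclicTI.IsLeft, leftSet])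
    (fun φ : ↥(W₁ ⊔ W₂) →* ℂˣ => (φ w : ℂ))).symm

theorem col_eq_ind (j : ↥(W₁ ⊔ W₂) →* ℂˣ) :
    colSum μ j = indFun (derivedIn M) (fun y : derivedIn M => μ j y) := by
  classical
  funext x
  by_cases hx : (x : G) ∈ ⁅M, M⁆
  · rw [hμ.col_apply_derived hG h j hx,
      show x = ((⟨x, mem_subgroupOf.2 hx⟩ : derivedIn M) : M) from rfl,
      Induce.indFun_apply_normal (derivedIn M), Finset.sum_congr rfl (g := fun _ => μ j x) fun y _ => by
        have := hμ.classFun j x y⁻¹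
        rw [inv_inv] at this
        refine Eq.trans ?_ this
        exact congrArg (μ j) rfl,
      Finset.sum_const, Finset.card_univ, nsmul_eq_mul, ← Nat.card_eq_fintype_card,
      ← (derivedIn M).card_mul_index, Nat.cast_mul, ← mul_assoc, ← mul_assoc,
      inv_mul_cancel₀ natCard_ne_zero, one_mul, PrimeFrob.index_eq (setup_of hG h),
      Nat.card_congr (subgroupOfEquivOfLe (W₁_le h)).toEquiv]
  · rw [hμ.col_apply_notMem hG h j hx,
      Induce.indFun_apply_normal_notMem (derivedIn M) _ (g := x) fun hd => hx (mem_subgroupOf.1 hd)]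

theorem inner_col_mu {j : ↥(W₁ ⊔ W₂) →* ℂˣ} (hj : j ∈ rightSet W₁ W₂)
    {k : ↥(W₁ ⊔ W₂) →* ℂˣ} (hk : k ∈ rightSet W₁ W₂) [Decidable (j = k)]
    (i : leftSet W₁ W₂) :
    classInner (colSum μ j) (μ ((i : ↥(W₁ ⊔ W₂) →* ℂˣ) * k)) = if j = k then 1 else 0 := by
  classical
  haveI := Fintype.ofFinite (leftSet W₁ W₂)
  rw [Tools.colSum_eq_sum, classInner_sum_left]
  split_ifs with e
  · subst e
    rw [Finset.sum_eq_single i (fun b _ hb => classInner_isIrr_ne (hμ.irr _) (hμ.irr _) fun e =>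
      hb (Subtype.ext ((CyclicTI.split_of h.selfNormalizing).mul_inj b.2 i.2 hj hj (hμ.inj e)).1))
      (fun hn => absurd (Finset.mem_univ _) hn), classInner_isIrr_self (hμ.irr _)]
  · exact Finset.sum_eq_zero fun b _ => classInner_isIrr_ne (hμ.irr _) (hμ.irr _) fun he =>
      e ((CyclicTI.split_of h.selfNormalizing).mul_inj b.2 i.2 hj hk (hμ.inj he)).2

theorem inner_col {j : ↥(W₁ ⊔ W₂) →* ℂˣ} (hj : j ∈ rightSet W₁ W₂)
    {k : ↥(W₁ ⊔ W₂) →* ℂˣ} (hk : k ∈ rightSet W₁ W₂) [Decidable (j = k)] :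
    classInner (colSum μ j) (colSum μ k) = if j = k then (Nat.card W₁ : ℂ) else 0 := by
  haveI := Fintype.ofFinite (leftSet W₁ W₂)
  conv_lhs => arg 2; rw [Tools.colSum_eq_sum]
  rw [classInner_sum_right, Finset.sum_congr rfl fun i _ => hμ.inner_col_mu hG h hj hk i,
    Finset.sum_const, Finset.card_univ, ← Nat.card_eq_fintype_card,
    Tools.card_leftSet h.selfNormalizing, nsmul_eq_mul]
  split_ifs <;> simp

theorem col_not_irr {j : ↥(W₁ ⊔ W₂) →* ℂˣ} (hj : j ∈ rightSet W₁ W₂) :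
    ¬ IsIrrCharacter M (colSum μ j) := fun hi => by
  classical
  have h1 := classInner_isIrr_self hi
  rw [hμ.inner_col hG h hj hj, if_pos rfl, Nat.cast_eq_one] at h1
  exact h.W₁_ne (card_eq_one.1 h1)

theorem col_injOn {j : ↥(W₁ ⊔ W₂) →* ℂˣ} (hj : j ∈ rightSet W₁ W₂)
    {k : ↥(W₁ ⊔ W₂) →* ℂˣ} (hk : k ∈ rightSet W₁ W₂) (e : colSum μ j = colSum μ k) : j = k := by
  classical
  by_contra hne
  have h1 := hμ.inner_col hG h hj hj
  rw [if_pos rfl] at h1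
  conv_lhs at h1 => arg 2; rw [e]
  rw [hμ.inner_col hG h hj hk, if_neg hne] at h1
  exact (Nat.cast_ne_zero.2 Nat.card_pos.ne') h1.symm

theorem conj_col (j : ↥(W₁ ⊔ W₂) →* ℂˣ) : conjFun (colSum μ j) = colSum μ j⁻¹ := by
  haveI := Fintype.ofFinite (leftSet W₁ W₂)
  funext x
  show conj (colSum μ j x) = _
  rw [colSum_apply', colSum_apply', map_sum]
  let e : leftSet W₁ W₂ ≃ leftSet W₁ W₂ :=
    ⟨fun i => ⟨(i : ↥(W₁ ⊔ W₂) →* ℂˣ)⁻¹, inv_mem_leftSet i.2⟩,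
      fun i => ⟨(i : ↥(W₁ ⊔ W₂) →* ℂˣ)⁻¹, inv_mem_leftSet i.2⟩,
      fun i => Subtype.ext (inv_inv (i : ↥(W₁ ⊔ W₂) →* ℂˣ)),
      fun i => Subtype.ext (inv_inv (i : ↥(W₁ ⊔ W₂) →* ℂˣ))⟩
  refine Fintype.sum_equiv e _ _ fun i => ?_
  show conjFun (μ _) x = _
  rw [(hμ.conj_mu hG h _).1, show ((i : ↥(W₁ ⊔ W₂) →* ℂˣ) * j)⁻¹ =
    (e i : ↥(W₁ ⊔ W₂) →* ℂˣ) * j⁻¹ from MonoidHom.ext fun w => by simp [e, mul_comm]]

/-- The restriction of `μ j` to `M'` is irreducible. -/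
theorem res_irr [Fintype (derivedIn M)] {j : ↥(W₁ ⊔ W₂) →* ℂˣ} (hj : j ∈ rightSet W₁ W₂) :
    IsIrrCharacter (derivedIn M) (fun y : derivedIn M => μ j y) := by
  classical
  refine isIrr_of_isCharacter_of_norm_one
    (isCharacter_restrict _ (isCharacter_of_isIrr (hμ.irr j))) ?_
  have h1 := hμ.inner_col hG h hj hj
  rw [if_pos rfl] at h1
  conv_lhs at h1 => arg 1; rw [hμ.col_eq_ind hG h j]
  rw [frobenius_reciprocity _ _ (hμ.col_isClassFunction hG h j)] at h1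
  have e : (fun y : derivedIn M => colSum μ j y) =
      (Nat.card W₁ : ℂ) • fun y : derivedIn M => μ j y := funext fun y =>
    hμ.col_apply_derived hG h j (mem_subgroupOf.1 y.2)
  rw [e, classInner_smul_right, Complex.conj_natCast] at h1
  exact mul_eq_left₀ (Nat.cast_ne_zero.2 Nat.card_pos.ne') |>.1 h1

theorem col_mem {j : ↥(W₁ ⊔ W₂) →* ℂˣ} (hj : j ∈ rightSet W₁ W₂) (hj1 : j ≠ 1) :
    colSum μ j ∈ calS M := by
  haveI := Fintype.ofFinite (derivedIn M)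
  have hnl : j ∉ leftSet W₁ W₂ := fun hl => hj1 ((CyclicTI.split_of h.selfNormalizing).mul_inj
    Tools.one_mem_leftSet hl hj CyclicTI.isRight_one ((one_mul j).trans (mul_one j).symm)).2
  obtain ⟨n, hn, hne⟩ := hμ.nontrivial_typeCore h hnl
  have hnd : (n : G) ∈ ⁅M, M⁆ := typeCore_le_derived h hn
  refine ⟨⟨_, hμ.res_irr hG h hj, fun e => hne ?_, fun a ha => ?_, hμ.col_eq_ind hG h j⟩, ?_⟩
  · exact (congrFun e ⟨n, mem_subgroupOf.2 hnd⟩).trans (congrFun e 1).symm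
  · rw [show a = 1 from Subtype.ext (mem_bot.1 ha)]
  rintro ⟨θ, -, -, hker, he⟩
  apply hne
  haveI := typeCore_normal h
  have e1 := congrFun he n
  have e2 := congrFun he 1
  rw [show n = ((⟨n, mem_subgroupOf.2 hnd⟩ : derivedIn M) : M) from rfl,
    Induce.indFun_apply_normal (derivedIn M), Finset.sum_congr rfl (g := fun _ => θ 1) fun x _ => hker _ ?_] at e1
  · rw [hμ.col_apply_derived hG h j (x := ((⟨n, mem_subgroupOf.2 hnd⟩ : derivedIn M) : M)) hnd,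
      Finset.sum_const, Finset.card_univ, nsmul_eq_mul, ← Nat.card_eq_fintype_card,
      ← (derivedIn M).card_mul_index, Nat.cast_mul, ← mul_assoc, ← mul_assoc,
      inv_mul_cancel₀ natCard_ne_zero, one_mul] at e1
    rw [indFun_one, hμ.col_apply_derived hG h j (x := 1) (by simp), ← e1] at e2
    exact (mul_left_cancel₀ (Nat.cast_ne_zero.2 Nat.card_pos.ne') e2).symm
  · show x⁻¹ * (n : M) * x ∈ _
    simpa using (typeCore_normal h).conj_mem n (mem_subgroupOf.2 hn) x⁻¹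

/-- The members of `calS M` are irreducible or columns. -/
theorem red_eq_col {φ : M → ℂ} (hφ : φ ∈ calS M) (hred : ¬ IsIrrCharacter M φ) :
    ∃ j ∈ rightSet W₁ W₂, j ≠ 1 ∧ φ = colSum μ j := by
  classical
  haveI := Fintype.ofFinite (derivedIn M)
  have hs := setup_of hG h
  obtain ⟨⟨θ, hθ, hθ1, -, rfl⟩, -⟩ := hφ
  have hfix : ∀ x ∈ W₁.subgroupOf M, PrimeFrob.Fix (derivedIn M) θ x := fun x hx =>
    by_contra fun hn => hred (PrimeFrob.irr_of_not_fix hs hθ ⟨x, hx, hn⟩)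
  let F : rightSet W₁ W₂ → {t : IrrCharacter (derivedIn M) //
      ∀ g ∈ W₁.subgroupOf M, PrimeFrob.Fix (derivedIn M) (t : derivedIn M → ℂ) g} := fun j =>
    ⟨⟨_, hμ.res_irr hG h j.2⟩, fun g _ => funext fun k => hμ.classFun _ (k : M) g⟩
  have hinj : Function.Injective F := fun a b e => Subtype.ext (hμ.col_injOn hG h a.2 b.2 (by
    rw [hμ.col_eq_ind hG h, hμ.col_eq_ind hG h]
    exact congrArg (indFun _) (congrArg Subtype.val (congrArg Subtype.val e))))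
  have hcard : Nat.card (rightSet W₁ W₂) = Nat.card {t : IrrCharacter (derivedIn M) //
      ∀ g ∈ W₁.subgroupOf M, PrimeFrob.Fix (derivedIn M) (t : derivedIn M → ℂ) g} := by
    rw [PrimeFrob.card_fix_all hs, Tools.card_rightSet h.selfNormalizing,
      Nat.card_congr (subgroupOfEquivOfLe ((W₂_le_derived h).trans (commutator_le_self M))).toEquiv]
  obtain ⟨⟨j, hj⟩, he⟩ :=
    ((Nat.bijective_iff_injective_and_card F).2 ⟨hinj, hcard⟩).2 ⟨⟨θ, hθ⟩, hfix⟩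
  have he' : (fun y : derivedIn M => μ j y) = θ :=
    congrArg Subtype.val (congrArg Subtype.val he)
  refine ⟨j, hj, fun e => hθ1 ?_, by rw [hμ.col_eq_ind hG h, he']⟩
  rw [← he', e, hμ.map_one]

/-- Members of `calS M` vanish on `M' - (A(M) ∪ {1})`. -/
theorem calS_apply_eq_zero (hM : IsCoatom M) {φ : M → ℂ} (hφ : φ ∈ calS M) {x : M}
    (hx : (x : G) ∈ ⁅M, M⁆) (hx1 : x ≠ 1) (hA : (x : G) ∉ typeA M) : φ x = 0 := by
  classical
  haveI := Fintype.ofFinite (derivedIn M)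
  by_cases hi : IsIrrCharacter M φ
  · obtain ⟨⟨θ, hθ, hθ1, hk, rfl⟩, hn⟩ := hφ
    refine apply_eq_zero_of_notMem_typeA hG hM h hi ?_ hx hx1 hA
    by_contra hcon
    push Not at hcon
    refine hn ⟨θ, hθ, hθ1, fun a ha => ?_, rfl⟩
    refine Constituent.constituent_apply_eq_one
      (isCharacter_restrict _ (isCharacter_of_isIrr hi)) hθ ?_
      (hcon (a : M) (mem_subgroupOf.1 ha))
    intro h0
    have h2 := classInner_isIrr_self hi
    rw [frobenius_reciprocity _ _ (char_isClassFunction (isCharacter_of_isIrr hi)),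
      classInner_conj_symm, h0, map_zero] at h2
    exact zero_ne_one h2
  · obtain ⟨j, hj, hj1, rfl⟩ := hμ.red_eq_col hG h hφ hi
    have hnl : j ∉ leftSet W₁ W₂ := fun hl => hj1 ((CyclicTI.split_of h.selfNormalizing).mul_inj
      Tools.one_mem_leftSet hl hj CyclicTI.isRight_one ((one_mul j).trans (mul_one j).symm)).2
    rw [hμ.col_apply_derived hG h j hx, apply_eq_zero_of_notMem_typeA hG hM h (hμ.irr j)
      (hμ.nontrivial_typeCore h hnl) hx hx1 hA, mul_zero]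

end MuData

end Cfsg.Agent.OddChar.TypeP
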