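import Cfsg.Prelude.Def_OddOrderLocal
import Cfsg.Prelude.Def_OddOrderChar

/-!
# Vocabulary for maximal subgroups of type P (Peterfalvi sections 4, 5, 9-14)

`M` is a maximal subgroup with type P data `W₁, U, W₂`; `H = M_F`, `M' = H ⋊ U`.
-/

set_option autoImplicit false

namespace Cfsg.Agent.OddChar.TypeP

open Cfsg Subgroup

universe u

variable {G : Type u} [Group G]

/-- `M'` as a subgroup of `M`. -/
def derivedIn (M : Subgroup G) : Subgroup ↥M := ⁅M, M⁆.subgroupOf M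

/-- The characters of `M` induced from irreducible characters of `M'` nontrivial on `M_s`. -/
noncomputable def calS (M : Subgroup G) [Fintype M] : Set (↥M → ℂ) :=
  inducedIrrAbove (derivedIn M) ⊥ \ inducedIrrAbove (derivedIn M) ((typeCore M).subgroupOf M)

/-- The members of `calS M` whose kernel contains `X`. -/
noncomputable def calSOn (M X : Subgroup G) [Fintype M] : Set (↥M → ℂ) :=
  inducedIrrAbove (derivedIn M) (X.subgroupOf M) \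
    inducedIrrAbove (derivedIn M) ((typeCore M).subgroupOf M)

/-- The characters of `M` induced from irreducible characters of `M'` nontrivial on `M_F`, whose kernel
contains `X` (Peterfalvi's `S(X)` of section 9). -/
noncomputable def calSH (M X : Subgroup G) [Fintype M] : Set (↥M → ℂ) :=
  inducedIrrAbove (derivedIn M) (X.subgroupOf M) \
    inducedIrrAbove (derivedIn M) ((fittingHallOf M).subgroupOf M)

/-- The Dade map of `(A₀(M), M, R)`. -/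
noncomputable def tau (M : Subgroup G) [Fintype M] : (↥M → ℂ) → G → ℂ :=
  dadeIsometry (typeA0 M) M (supportR M)

variable {W₁ W₂ : Subgroup G}

/-- Linear characters of `W` trivial on `W₂`: the index set `i` of `η i j`. -/
def leftSet (W₁ W₂ : Subgroup G) : Set (↥(W₁ ⊔ W₂) →* ℂˣ) :=
  {ω | ∀ w : ↥(W₁ ⊔ W₂), (w : G) ∈ W₂ → ω w = 1}

/-- Linear characters of `W` trivial on `W₁`: the index set `j` of `η i j`. -/
def rightSet (W₁ W₂ : Subgroup G) : Set (↥(W₁ ⊔ W₂) →* ℂˣ) :=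
  {ω | ∀ w : ↥(W₁ ⊔ W₂), (w : G) ∈ W₁ → ω w = 1}

/-- The sum over the column `j` of a family indexed by linear characters of `W`. -/
noncomputable def colSum {X : Type*} (f : (↥(W₁ ⊔ W₂) →* ℂˣ) → X → ℂ)
    (j : ↥(W₁ ⊔ W₂) →* ℂˣ) : X → ℂ :=
  ∑ᶠ i ∈ leftSet W₁ W₂, f (i * j)

/-- The irreducible characters `μ i j` of `M` and their signs (Peterfalvi 4.3). -/
structure MuData (M : Subgroup G) [Fintype M] (W₁ W₂ : Subgroup G)
    (μ : (↥(W₁ ⊔ W₂) →* ℂˣ) → ↥M → ℂ) (δ : (↥(W₁ ⊔ W₂) →* ℂˣ) → ℂ) : Prop where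
  inj : Function.Injective μ
  irr : ∀ ω, IsIrrCharacter ↥M (μ ω)
  sign : ∀ ω, δ ω = 1 ∨ δ ω = -1
  sign_col : ∀ i ∈ leftSet W₁ W₂, ∀ ω, δ (i * ω) = δ ω
  map_one : μ 1 = fun _ => 1
  eq_on : ∀ ω, ∀ w : ↥M, ∀ hw : (w : G) ∈ W₁ ⊔ W₂, (w : G) ∉ W₂ →
    μ ω w = δ ω * (ω ⟨w, hw⟩ : ℂ)
  vanish : ∀ θ : ↥M → ℂ, IsIrrCharacter ↥M θ → (∀ ω, θ ≠ μ ω) →
    ∀ w : ↥M, (w : G) ∈ W₁ ⊔ W₂ → (w : G) ∉ W₂ → θ w = 0
  degree : ∀ ω, ∃ n : ℤ, μ ω 1 - δ ω = n * (Nat.card W₁ : ℂ)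
  col_degree : ∀ i ∈ leftSet W₁ W₂, ∀ ω, μ (i * ω) 1 = μ ω 1

/-- The centraliser in `U` of the section `H/H₀`, as a set. -/
def sectionCentralizer (U H H₀ : Subgroup G) : Set G :=
  {u | u ∈ U ∧ ∀ h ∈ H, u * h * u⁻¹ * h⁻¹ ∈ H₀}

/-- A chief factor `H/H₀` of `M` not centralised by `U` (Peterfalvi 9.4): it is elementary of order
`r ^ |W₁|`, `W₂` maps onto a subgroup of order `r`, and `C = C_U(H/H₀) < U` contains `U'`. -/
structure ChiefData (M W₁ U W₂ H₀ C : Subgroup G) (r : ℕ) : Prop where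
  prime : r.Prime
  le : H₀ ≤ fittingHallOf M
  normal : M ≤ normalizer (H₀ : Set G)
  abelian : ∀ a ∈ fittingHallOf M, ∀ b ∈ fittingHallOf M, a * b * a⁻¹ * b⁻¹ ∈ H₀
  pow : ∀ a ∈ fittingHallOf M, a ^ r ∈ H₀
  card : Nat.card (fittingHallOf M) = Nat.card H₀ * r ^ Nat.card W₁
  card_W₂ : H₀.relIndex W₂ = r
  minimal : ∀ N : Subgroup G, M ≤ normalizer (N : Set G) → H₀ ≤ N → N ≤ fittingHallOf M →
    N = H₀ ∨ N = fittingHallOf M
  cent : (C : Set G) = sectionCentralizer U (fittingHallOf M) H₀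
  cent_ne : C ≠ U
  derived_le : ⁅U, U⁆ ≤ C
  normal_cent : U ⊔ W₁ ≤ normalizer (C : Set G)

/-- The irreducible ("Galois") case for `H/H₀` (Peterfalvi 9.7b). -/
structure GaloisData (M W₁ U W₂ H₀ C : Subgroup G) (r : ℕ) : Prop where
  irreducible : ∀ N : Subgroup G, U ≤ normalizer (N : Set G) → H₀ ≤ N → N ≤ fittingHallOf M →
    N = H₀ ∨ N = fittingHallOf M
  cyclic : ∃ u ∈ U, ∀ v ∈ U, ∃ n : ℤ, v * u ^ n ∈ C
  dvd : C.relIndex U * (r - 1) ∣ r ^ Nat.card W₁ - 1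
  coprime : (C.relIndex U).Coprime (r - 1)
  free : ∀ u ∈ U, u ∉ C → ∀ h ∈ fittingHallOf M, u * h * u⁻¹ * h⁻¹ ∈ H₀ → h ∈ H₀
  field : ∃ (F : Type) (_ : Field F) (_ : Fintype F) (f ψ : G → F),
    Fintype.card F = r ^ Nat.card W₁ ∧
    (∀ y : F, ∃ h ∈ fittingHallOf M, f h = y) ∧
    (∀ h ∈ fittingHallOf M, f h = 0 ↔ h ∈ H₀) ∧
    (∀ a ∈ fittingHallOf M, ∀ b ∈ fittingHallOf M, f (a * b) = f a + f b) ∧
    (∀ u ∈ U, ψ u ≠ 0 ∧ ∀ h ∈ fittingHallOf M, f (u * h * u⁻¹) = ψ u * f h) ∧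
    (∀ u ∈ U, ∀ v ∈ U, ψ (u * v) = ψ u * ψ v) ∧ (∀ u ∈ U, ψ u = 1 ↔ u ∈ C) ∧
    ∀ x ∈ W₂, f x ^ r = f x

/-- The reducible case for `H/H₀` (Peterfalvi 9.7a): a direct sum of `|W₁|` lines. -/
structure SplitData (M W₁ U W₂ H₀ C H₁ C₁ : Subgroup G) (r a : ℕ) : Prop where
  le₀ : H₀ ≤ H₁
  le : H₁ ≤ fittingHallOf M
  normal : U ≤ normalizer (H₁ : Set G)
  line : H₀.relIndex H₁ = r
  span : (⨆ w ∈ W₁, H₁.map (MulAut.conj w).toMonoidHom) = fittingHallOf M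
  cent₁ : (C₁ : Set G) = sectionCentralizer U H₁ H₀
  index₁ : C₁.relIndex U = a
  one_lt : 1 < a
  dvd : a ∣ r - 1
  cent_eq : (C : Set G) = {u | ∀ w ∈ W₁, w * u * w⁻¹ ∈ C₁}
  pow : ∀ u ∈ U, u ^ a ∈ C
  index_dvd : C.relIndex U ∣ a ^ (Nat.card W₁ - 1)

end Cfsg.Agent.OddChar.TypeP
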