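import Cfsg.Agent.OddChar.TypeP.Interfaces

/-!
# Interfaces for the last steps (replacing Peterfalvi sections 13 and 14)

The proofs are sketched in `notes/ft/endgame.md` of the repository.
-/

set_option autoImplicit false

namespace Cfsg.Agent.OddChar.TypeP

open Cfsg Subgroup

universe u

/-- `S` is exceptional: the complement `U` has the largest possible order `(p^q - 1)/(p - 1)`. -/
def IsExceptional {G : Type u} [Group G] (W₁ U W₂ : Subgroup G) : Prop :=
  Nat.card U * (Nat.card W₂ - 1) = Nat.card W₂ ^ Nat.card W₁ - 1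

/-- The standing hypotheses for a pair of maximal subgroups of type P. -/
structure PairData {G : Type u} [Group G] (S T W₁ W₂ U V : Subgroup G) : Prop where
  hS : IsCoatom S
  hT : IsCoatom T
  hSP : IsTypePWith S W₁ U W₂
  hTP : IsTypePWith T W₂ V W₁
  inter : S ⊓ T = W₁ ⊔ W₂
  two : IsOfTypeII S ∨ IsOfTypeII T
  typeS : IsOfTypeII S ∨ IsOfTypeIII S ∨ IsOfTypeIV S ∨ IsOfTypeV S
  typeT : IsOfTypeII T ∨ IsOfTypeIII T ∨ IsOfTypeIV T ∨ IsOfTypeV T

/-- Both `|W₁|` and `|W₂|` are primes once type V is excluded. -/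
def PrimesStatement : Prop :=
  ∀ {G : Type u} [Group G] [Finite G], IsMinSimpleOddOrder G →
    ∀ S T W₁ W₂ U V : Subgroup G, PairData S T W₁ W₂ U V →
      (Nat.card W₁).Prime ∧ (Nat.card W₂).Prime

/-- `S_F` is elementary abelian of order `p ^ q` for type II (Wielandt) and type III. -/
def FcoreStatement : Prop :=
  ∀ {G : Type u} [Group G] [Finite G], IsMinSimpleOddOrder G →
    ∀ S T W₁ W₂ U V : Subgroup G, PairData S T W₁ W₂ U V →
      IsElementaryAbelian (Nat.card W₂) (fittingHallOf S) ∧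
        Nat.card (fittingHallOf S) = Nat.card W₂ ^ Nat.card W₁

/-- `C_U(S_F) = 1`. -/
def CentralizerStatement : Prop :=
  ∀ {G : Type u} [Group G] [Finite G], IsMinSimpleOddOrder G →
    ∀ S T W₁ W₂ U V : Subgroup G, PairData S T W₁ W₂ U V →
      U ⊓ centralizer ((fittingHallOf S : Subgroup G) : Set G) = ⊥

/-- `N(W₁) = C(W₁) = T_F W₂`. -/
def NormalizerW₁Statement : Prop :=
  ∀ {G : Type u} [Group G] [Finite G], IsMinSimpleOddOrder G →
    ∀ S T W₁ W₂ U V : Subgroup G, PairData S T W₁ W₂ U V →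
      normalizer (W₁ : Set G) = centralizer (W₁ : Set G) ∧
        centralizer (W₁ : Set G) = fittingHallOf T ⊔ W₂

/-- The maximal subgroup over `N(U)` for `S` of type II. -/
def OverStatement : Prop :=
  ∀ {G : Type u} [Group G] [Finite G], IsMinSimpleOddOrder G →
    ∀ S T W₁ W₂ U V : Subgroup G, PairData S T W₁ W₂ U V → IsOfTypeII S →
      ∀ L : Subgroup G, IsCoatom L → normalizer (U : Set G) ≤ L →
        (∀ x ∈ fittingHallOf L, x ≠ 1 → L ⊓ centralizer ({x} : Set G) ≤ fittingHallOf L) ∧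
        U ≤ fittingHallOf L ∧
        ((fittingHallOf L ⊓ W₁ = ⊥ ∧ fittingHallOf L ⊔ W₁ = L) ∨
          ∃ y ∈ fittingHallOf T,
            fittingHallOf L ⊓ (W₁ ⊔ W₂.map (MulAut.conj y).toMonoidHom) = ⊥ ∧
            fittingHallOf L ⊔ (W₁ ⊔ W₂.map (MulAut.conj y).toMonoidHom) = L)

/-- The larger prime gives an exceptional member. -/
def ExceptionalStatement : Prop :=
  ∀ {G : Type u} [Group G] [Finite G], IsMinSimpleOddOrder G →
    ∀ S T W₁ W₂ U V : Subgroup G, PairData S T W₁ W₂ U V → Nat.card W₁ < Nat.card W₂ →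
      IsExceptional W₁ U W₂

/-- A conjugate of `W₂` normalises `U`. -/
def NormalizesStatement : Prop :=
  ∀ {G : Type u} [Group G] [Finite G], IsMinSimpleOddOrder G →
    ∀ S T W₁ W₂ U V : Subgroup G, PairData S T W₁ W₂ U V → Nat.card W₁ < Nat.card W₂ →
      ∃ y ∈ fittingHallOf T, W₂.map (MulAut.conj y).toMonoidHom ≤ normalizer (U : Set G)

end Cfsg.Agent.OddChar.TypeP
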