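import Cfsg.Agent.OddChar.TypeP.Mu
import Cfsg.Agent.OddChar.Dade.Basic
import Cfsg.Agent.OddLocal.DadeSets
import Cfsg.Agent.Lib.Characters.Kernel
import Cfsg.Agent.Lib.Characters.Inner
import Cfsg.Agent.Lib.Characters.Normal

/-!
# First consequences of `MuData`: kernels and supports
-/

set_option linter.style.haveILetI false
set_option autoImplicit false

namespace Cfsg.Agent.OddChar.TypeP

open Cfsg Subgroup Cfsg.Agent.Characters
open scoped ComplexConjugate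

universe u

section Vanish

variable {X : Type u} [Group X] [Finite X]

/-- Translation by the kernel fixes a character. -/
theorem apply_mul_of_ker {χ : X → ℂ} (h : Cfsg.IsCharacter X χ) {n : X} (hn : χ n = χ 1) (g : X) :
    χ (g * n) = χ g := by
  haveI := charKernel_normal h
  obtain ⟨ψ, -, hψ, -⟩ := exists_deflate_quotient (charKernel χ h) h fun x hx => hx
  rw [← hψ, ← hψ, QuotientGroup.mk_mul, (QuotientGroup.eq_one_iff n).2 hn, mul_one]

/-- An irreducible character nontrivial on a normal subgroup `N` vanishes at the elements that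
centralise no non-identity element of `N`. -/
theorem apply_eq_zero_of_inf_centralizer {N : Subgroup X} [N.Normal] {χ : X → ℂ}
    (hχ : Cfsg.IsIrrCharacter X χ) (hN : ∃ n ∈ N, χ n ≠ χ 1) {x : X}
    (hx : N ⊓ centralizer ({x} : Set X) = ⊥) : χ x = 0 := by
  classical
  haveI := Fintype.ofFinite X
  haveI := Fintype.ofFinite (X ⧸ N)
  haveI := Fintype.ofFinite (Cfsg.IrrCharacter X)
  haveI := Fintype.ofFinite (Cfsg.IrrCharacter (X ⧸ N))
  let f : Cfsg.IrrCharacter (X ⧸ N) → Cfsg.IrrCharacter X := fun ψ =>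
    ⟨_, isIrrCharacter_comp_surjective (QuotientGroup.mk' N) (QuotientGroup.mk'_surjective N) ψ.2⟩
  have hf : Function.Injective f := fun a b e => Subtype.ext <| funext fun q => by
    obtain ⟨y, rfl⟩ := QuotientGroup.mk'_surjective N q
    exact congrFun (congrArg Subtype.val e) y
  have hsum : ∀ {Y : Type u} [Group Y] [Finite Y] [Fintype (Cfsg.IrrCharacter Y)] (y : Y),
      ∑ θ : Cfsg.IrrCharacter Y, Complex.normSq ((θ : Y → ℂ) y) =
        (Nat.card (centralizer ({y} : Set Y)) : ℝ) := by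
    intro Y _ _ _ y
    have h := second_orthogonality y y
    rw [if_pos (IsConj.refl y)] at h
    have e := congrArg Complex.re h
    simpa [Complex.mul_conj] using e
  have hle : Nat.card (centralizer ({x} : Set X)) ≤
      Nat.card (centralizer ({(QuotientGroup.mk' N x)} : Set (X ⧸ N))) := by
    refine Nat.card_le_card_of_injective (fun y => ⟨QuotientGroup.mk' N (y : X), ?_⟩) fun a b e => ?_
    · rw [mem_centralizer_singleton_iff, ← map_mul, ← map_mul, mem_centralizer_singleton_iff.1 y.2]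
    · have e' : ((a : X) : X ⧸ N) = ((b : X) : X ⧸ N) := congrArg Subtype.val e
      have hm : (a : X)⁻¹ * b ∈ N ⊓ centralizer ({x} : Set X) :=
        mem_inf.2 ⟨QuotientGroup.eq.1 e', mul_mem (inv_mem a.2) b.2⟩
      rw [hx, mem_bot, inv_mul_eq_one] at hm
      exact Subtype.ext hm
  have hni : (⟨χ, hχ⟩ : Cfsg.IrrCharacter X) ∉ Finset.univ.image f := fun hm => by
    obtain ⟨ψ, -, e⟩ := Finset.mem_image.1 hm
    obtain ⟨n, hn, hne⟩ := hN
    refine hne ?_
    have e' : χ = fun y => (ψ : X ⧸ N → ℂ) (QuotientGroup.mk' N y) :=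
      (congrArg Subtype.val e).symm
    rw [e']
    simp only [map_one, QuotientGroup.mk'_apply, (QuotientGroup.eq_one_iff n).2 hn]
  have h2 := Finset.sum_le_univ_sum_of_nonneg (s := insert (⟨χ, hχ⟩ : Cfsg.IrrCharacter X)
    (Finset.univ.image f)) (f := fun θ : Cfsg.IrrCharacter X => Complex.normSq ((θ : X → ℂ) x))
    fun θ => Complex.normSq_nonneg _
  rw [Finset.sum_insert hni, Finset.sum_image fun a _ b _ e => hf e, hsum x] at h2
  have h3 : ∑ ψ : Cfsg.IrrCharacter (X ⧸ N), Complex.normSq ((f ψ : X → ℂ) x) =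
      (Nat.card (centralizer ({(QuotientGroup.mk' N x)} : Set (X ⧸ N))) : ℝ) := by
    rw [← hsum (QuotientGroup.mk' N x)]
    rfl
  rw [h3] at h2
  have h4 : Complex.normSq (χ x) ≤ 0 := by
    have : (Nat.card (centralizer ({x} : Set X)) : ℝ) ≤
        Nat.card (centralizer ({(QuotientGroup.mk' N x)} : Set (X ⧸ N))) := by exact_mod_cast hle
    linarith
  exact Complex.normSq_eq_zero.1 (le_antisymm h4 (Complex.normSq_nonneg _))

end Vanish

variable {G : Type u} [Group G] {M W₁ U W₂ : Subgroup G}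

theorem not_typeI [Finite G] (hG : IsMinSimpleOddOrder G) (hM : IsCoatom M)
    (h : IsTypePWith M W₁ U W₂) : ¬ IsOfTypeI M := fun hI => by
  obtain ⟨K, V, hKU⟩ := OddLocal.Fcore.exists_decomp hG hM
  exact OddLocal.Types.K_ne_bot_of_typeP hG hM hKU h (OddLocal.Types.of_typeI hG hM hKU hI).1

theorem typeCore_le_derived (h : IsTypePWith M W₁ U W₂) : typeCore M ≤ ⁅M, M⁆ := by
  unfold typeCore
  split_ifs
  · exact le_rfl
  · exact h.U_compl.1

theorem typeCore_le (h : IsTypePWith M W₁ U W₂) : typeCore M ≤ M :=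
  (typeCore_le_derived h).trans (commutator_le_self M)

theorem fittingHallOf_le_typeCore (h : IsTypePWith M W₁ U W₂) :
    fittingHallOf M ≤ typeCore M := by
  unfold typeCore
  split_ifs
  · exact h.U_compl.1
  · exact le_rfl

theorem W₂_le_typeCore (h : IsTypePWith M W₁ U W₂) : W₂ ≤ typeCore M :=
  (h.W₂_le.trans inf_le_left).trans (fittingHallOf_le_typeCore h)

theorem typeCore_normal [Finite G] (_h : IsTypePWith M W₁ U W₂) : ((typeCore M).subgroupOf M).Normal := by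
  unfold typeCore
  split_ifs
  · exact derivedIn_normal M
  · exact (normal_subgroupOf_iff_le_normalizer (OddLocal.FittingStructure.fittingHallOf_le M)).2
      (OddLocal.FittingStructure.le_normalizer_fittingHallOf M)

theorem mem_W₂_of_mem_derived [Fintype M] (hG : IsMinSimpleOddOrder G)
    (h : IsTypePWith M W₁ U W₂) {w : G} (hw : w ∈ W₁ ⊔ W₂) (hd : w ∈ ⁅M, M⁆) : w ∈ W₂ := by
  have hw' : (⟨w, W_le h hw⟩ : M) ∈ W₁.subgroupOf M ⊔ W₂.subgroupOf M := by
    rw [subgroupOf_sup_W h]; exact hw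
  exact mem_subgroupOf.1 (PrimeFrob.mem_W₂_of_mem_K (setup_of hG h) hw' (mem_subgroupOf.2 hd))

/-- Every element of `M` outside `M'` is conjugate in `M` to an element of `W` outside `W₂`. -/
theorem exists_conj_W [Fintype M] (hG : IsMinSimpleOddOrder G) (h : IsTypePWith M W₁ U W₂)
    {x : M} (hx : (x : G) ∉ ⁅M, M⁆) :
    ∃ m : M, ((m * x * m⁻¹ : M) : G) ∈ W₁ ⊔ W₂ ∧ ((m * x * m⁻¹ : M) : G) ∉ W₂ := by
  obtain ⟨m, w, hw, e⟩ := PrimeFrob.exists_conj_mem (setup_of hG h) (g := x)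
    fun hd => hx (mem_subgroupOf.1 hd)
  refine ⟨m, ?_, ?_⟩
  · have := w.2
    rw [← e] at this
    rw [subgroupOf_sup_W h] at this
    exact this
  · rw [← e] at hw
    exact fun hn => hw (mem_subgroupOf.2 hn)

/-- The members of `A₀(M)` outside `A(M)`. -/
theorem mem_typeA0_of_conj [Finite G] (hG : IsMinSimpleOddOrder G) (hM : IsCoatom M)
    (h : IsTypePWith M W₁ U W₂) {x : G} {m : M} (h1 : (m : G) * x * (m : G)⁻¹ ∈ W₁ ⊔ W₂)
    (h2 : (m : G) * x * (m : G)⁻¹ ∉ W₁) (h3 : (m : G) * x * (m : G)⁻¹ ∉ W₂) : x ∈ typeA0 M :=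
  Or.inr ⟨not_typeI hG hM h, W₁, U, W₂, h, (m : G)⁻¹, M.inv_mem m.2, _, h1, h2, h3, by group⟩

theorem mem_typeA_iff [Finite G] (hG : IsMinSimpleOddOrder G) (hM : IsCoatom M)
    (h : IsTypePWith M W₁ U W₂) {x : G} :
    x ∈ typeA M ↔ x ∈ ⁅M, M⁆ ∧ x ≠ 1 ∧ ∃ y ∈ typeCore M, y ≠ 1 ∧ x * y = y * x := by
  rw [typeA, if_neg (not_typeI hG hM h)]
  rfl

/-- Irreducible characters nontrivial on `M_s` vanish on `M' - (A(M) ∪ {1})`. -/
theorem apply_eq_zero_of_notMem_typeA [Finite G] (hG : IsMinSimpleOddOrder G) (hM : IsCoatom M)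
    (h : IsTypePWith M W₁ U W₂) {χ : M → ℂ} (hχ : IsIrrCharacter M χ)
    (hN : ∃ n : M, (n : G) ∈ typeCore M ∧ χ n ≠ χ 1) {x : M} (hx : (x : G) ∈ ⁅M, M⁆) (hx1 : x ≠ 1)
    (hA : (x : G) ∉ typeA M) : χ x = 0 := by
  haveI := typeCore_normal h
  obtain ⟨n, hn, hne⟩ := hN
  refine apply_eq_zero_of_inf_centralizer (N := (typeCore M).subgroupOf M) hχ
    ⟨n, mem_subgroupOf.2 hn, hne⟩ ((eq_bot_iff_forall _).2 fun y hy => ?_)
  by_contra hy1
  refine hA ((mem_typeA_iff hG hM h).2 ⟨hx, fun e => hx1 (Subtype.ext e), y, mem_subgroupOf.1 hy.1,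
    fun e => hy1 (Subtype.ext e), ?_⟩)
  exact (congrArg Subtype.val (mem_centralizer_singleton_iff.1 hy.2)).symm

namespace MuData

variable [Fintype M] {μ : (↥(W₁ ⊔ W₂) →* ℂˣ) → ↥M → ℂ} {δ : (↥(W₁ ⊔ W₂) →* ℂˣ) → ℂ}
  (hμ : MuData M W₁ W₂ μ δ)
include hμ

theorem classFun (ω : ↥(W₁ ⊔ W₂) →* ℂˣ) : IsClassFunction M (μ ω) :=
  char_isClassFunction (isCharacter_of_isIrr (hμ.irr ω))

theorem sign_mul_self (ω : ↥(W₁ ⊔ W₂) →* ℂˣ) : δ ω * δ ω = 1 := by
  rcases hμ.sign ω with e | e <;> rw [e] <;> norm_num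

/-- A row character off the left part is nontrivial on `W₂`. -/
theorem exists_ne_apply_one (h : IsTypePWith M W₁ U W₂) {ω : ↥(W₁ ⊔ W₂) →* ℂˣ}
    (hω : ω ∉ leftSet W₁ W₂) : ∃ n : M, (n : G) ∈ W₂ ∧ μ ω n ≠ μ ω 1 := by
  by_contra hn
  push Not at hn
  apply hω
  intro b hb
  obtain ⟨a, ha, ha1⟩ := CyclicTI.exists_mem_ne_one h.W₁_ne
  have ha2 : a ∉ W₂ := fun e => ha1 (by
    have : a ∈ W₁ ⊓ W₂ := ⟨ha, e⟩
    rwa [h.selfNormalizing.2.2.1, mem_bot] at this)
  have hab : a * (b : G) ∉ W₂ := fun e => ha2 (by simpa using W₂.mul_mem e (W₂.inv_mem hb))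
  have e1 := hμ.eq_on ω ⟨a, W₁_le h ha⟩ (mem_sup_left ha) ha2
  have e2 := hμ.eq_on ω (⟨a, W₁_le h ha⟩ * ⟨b, W_le h b.2⟩) (mul_mem (mem_sup_left ha) b.2) hab
  rw [apply_mul_of_ker (isCharacter_of_isIrr (hμ.irr ω)) (hn _ hb) _, e1] at e2
  have e3 : (ω ⟨a, mem_sup_left ha⟩ : ℂ) = ω ⟨a, mem_sup_left ha⟩ * ω b := by
    refine mul_left_cancel₀ (fun e => ?_) (e2.trans ?_)
    · rcases hμ.sign ω with s | s <;> rw [s] at e <;> norm_num at e
    · rw [← Units.val_mul, ← map_mul]; rfl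
  rw [left_eq_mul₀ (Units.ne_zero _)] at e3
  exact Units.ext e3

theorem nontrivial_typeCore (h : IsTypePWith M W₁ U W₂) {ω : ↥(W₁ ⊔ W₂) →* ℂˣ}
    (hω : ω ∉ leftSet W₁ W₂) : ∃ n : M, (n : G) ∈ typeCore M ∧ μ ω n ≠ μ ω 1 :=
  (hμ.exists_ne_apply_one h hω).imp fun _ hn => ⟨W₂_le_typeCore h hn.1, hn.2⟩

end MuData

end Cfsg.Agent.OddChar.TypeP
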